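import Mathlib
import Cfsg.Agent.Lib.Helper22.Frob

/-! A split extension with fixed-point-free action is a Frobenius group. -/

namespace Cfsg.Agent.Lib.Helper17

open scoped Pointwise
open Cfsg.Agent.Lib.Helper22

theorem frob_of_fpf {L : Type*} [Group L] [Finite L] (N H : Subgroup L) [hNn : N.Normal]
    (hNH : N ⊓ H = ⊥) (hsup : N ⊔ H = ⊤) (hH : H ≠ ⊥) (hN : N ≠ ⊥)
    (hfpf : ∀ h ∈ H, h ≠ 1 → ∀ n ∈ N, h * n = n * h → n = 1) :
    Cfsg.IsFrobeniusComplement H ∧ Cfsg.frobeniusKernel H = (N : Set L) := by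
  have hdisj : ∀ x : L, x ∈ N → x ∈ H → x = 1 := by
    intro x h1 h2
    have : x ∈ N ⊓ H := ⟨h1, h2⟩
    rw [hNH] at this
    exact Subgroup.mem_bot.mp this
  have hdec : ∀ g : L, ∃ n ∈ N, ∃ h ∈ H, g = n * h := by
    intro g
    have hg : g ∈ N ⊔ H := by rw [hsup]; trivial
    rw [Subgroup.mem_sup_of_normal_left] at hg
    obtain ⟨n, hn, h, hh, rfl⟩ := hg
    exact ⟨n, hn, h, hh, rfl⟩
  constructor
  · rw [isFrobeniusComplement_iff]
    refine ⟨hH, ?_, ?_⟩
    · intro htop
      apply hN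
      rw [htop, inf_top_eq] at hNH
      exact hNH
    · intro g hg x hx hgx
      obtain ⟨n, hn, h, hh, rfl⟩ := hdec g
      have hn1 : n ≠ 1 := by
        rintro rfl
        apply hg
        simpa using hh
      -- y = (n h)⁻¹ x (n h) ∈ H, so n⁻¹ x n = h y h⁻¹ ∈ H
      have h1 : n⁻¹ * x * n ∈ H := by
        have : n⁻¹ * x * n = h * ((n * h)⁻¹ * x * (n * h)) * h⁻¹ := by group
        rw [this]
        exact H.mul_mem (H.mul_mem hh hgx) (H.inv_mem hh)
      have h2 : x⁻¹ * (n⁻¹ * x * n) ∈ N := by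
        have : x⁻¹ * (n⁻¹ * x * n) = (x⁻¹ * n⁻¹ * x⁻¹⁻¹) * n := by group
        rw [this]
        exact N.mul_mem (hNn.conj_mem _ (N.inv_mem hn) _) hn
      have h3 := hdisj _ h2 (H.mul_mem (H.inv_mem hx) h1)
      by_contra hx1
      apply hn1
      apply hfpf x hx hx1 n hn
      have h4 : n⁻¹ * x * n = x := by
        have := inv_mul_eq_one.mp h3
        exact this.symm
      calc x * n = n * (n⁻¹ * x * n) := by group
        _ = n * x := by rw [h4]
  · ext x
    constructor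
    · intro hx
      by_contra hxN
      obtain ⟨n, hn, h, hh, rfl⟩ := hdec x
      have hh1 : h ≠ 1 := by
        rintro rfl
        apply hxN
        simpa using hn
      let φ : N → N := fun m => ⟨m.1 * (h * m.1⁻¹ * h⁻¹), N.mul_mem m.2 (hNn.conj_mem _ (N.inv_mem m.2) _)⟩
      have hinj : Function.Injective φ := by
        intro m m' hmm
        have h1 : m.1 * (h * m.1⁻¹ * h⁻¹) = m'.1 * (h * m'.1⁻¹ * h⁻¹) := congrArg Subtype.val hmm
        have h2 : h * (m'.1⁻¹ * m.1) = (m'.1⁻¹ * m.1) * h := by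
          have : m'.1⁻¹ * (m.1 * (h * m.1⁻¹ * h⁻¹)) * h * m.1 = m'.1⁻¹ * (m'.1 * (h * m'.1⁻¹ * h⁻¹)) * h * m.1 := by
            rw [h1]
          calc h * (m'.1⁻¹ * m.1) = m'.1⁻¹ * (m'.1 * (h * m'.1⁻¹ * h⁻¹)) * h * m.1 := by group
            _ = m'.1⁻¹ * (m.1 * (h * m.1⁻¹ * h⁻¹)) * h * m.1 := this.symm
            _ = (m'.1⁻¹ * m.1) * h := by group
        have h3 := hfpf h hh hh1 _ (N.mul_mem (N.inv_mem m'.2) m.2) h2
        apply Subtype.ext
        exact (inv_mul_eq_one.mp h3).symm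
      obtain ⟨m, hm⟩ := Finite.surjective_of_injective hinj ⟨n, hn⟩
      have hm' : m.1 * (h * m.1⁻¹ * h⁻¹) = n := congrArg Subtype.val hm
      rcases hx with hx | hx
      · apply hxN
        rw [hx]; exact N.one_mem
      · apply hx m.1
        rw [mem_conj_smul_iff, ← hm']
        have : m.1⁻¹ * (m.1 * (h * m.1⁻¹ * h⁻¹) * h) * m.1 = h := by group
        rw [this]
        exact hh
    · intro hx
      by_cases hx1 : x = 1
      · exact Or.inl hx1
      · right
        intro g hg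
        rw [mem_conj_smul_iff] at hg
        apply hx1
        have h1 : g⁻¹ * x * g ∈ N := by
          have := hNn.conj_mem x hx g⁻¹
          rwa [inv_inv] at this
        have h2 := hdisj _ h1 hg
        calc x = g * (g⁻¹ * x * g) * g⁻¹ := by group
          _ = 1 := by rw [h2]; group

end Cfsg.Agent.Lib.Helper17
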