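import Mathlib
import Cfsg.Agent.Lib.Helper4.MinNormal
import Cfsg.Agent.Lib.Helper17.Basic

set_option autoImplicit false

/-! Non-abelian `p`-groups with an abelian subgroup of index `p`. -/

namespace Cfsg.Agent.Lib.Helper17

open Cfsg.Agent.Lib.Helper4
open scoped commutatorElement

theorem normal_of_index_p {S : Type*} [Group S] [Finite S] {p : ℕ} [hp : Fact p.Prime]
    (hS : IsPGroup p S) (A : Subgroup S) (hAi : A.index = p) : A.Normal := by
  obtain ⟨n, hn⟩ := IsPGroup.iff_card.mp hS
  apply Subgroup.normal_of_index_eq_minFac_card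
  rw [hAi, hn]
  have hn0 : n ≠ 0 := by
    rintro rfl
    have h1 := Subgroup.index_dvd_card A
    rw [hAi, hn, pow_zero] at h1
    exact hp.out.one_lt.ne' (Nat.dvd_one.mp h1)
  exact (Nat.Prime.pow_minFac hp.out hn0).symm

theorem sup_zpowers_eq_top {S : Type*} [Group S] {p : ℕ} [hp : Fact p.Prime]
    (A : Subgroup S) (hAi : A.index = p) {x : S} (hx : x ∉ A) : A ⊔ Subgroup.zpowers x = ⊤ := by
  have h1 : (A ⊔ Subgroup.zpowers x).index ∣ p := hAi ▸ Subgroup.index_dvd_of_le le_sup_left
  rcases (Nat.dvd_prime hp.out).mp h1 with h | h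
  · exact Subgroup.index_eq_one.mp h
  · exfalso
    have h2 := Subgroup.relIndex_mul_index (le_sup_left : A ≤ A ⊔ Subgroup.zpowers x)
    rw [h, hAi] at h2
    have h3 : A.relIndex (A ⊔ Subgroup.zpowers x) = 1 := by
      have : A.relIndex (A ⊔ Subgroup.zpowers x) * p = 1 * p := by rw [h2, one_mul]
      exact Nat.eq_of_mul_eq_mul_right hp.out.pos this
    rw [Subgroup.relIndex_eq_one] at h3
    exact hx (h3 ((le_sup_right : Subgroup.zpowers x ≤ _) (Subgroup.mem_zpowers x)))

theorem center_le_of_index_p {S : Type*} [Group S] {p : ℕ} [hp : Fact p.Prime]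
    (hna : ¬ IsMulCommutative S) (A : Subgroup S) (hA : IsMulCommutative ↥A) (hAi : A.index = p) :
    Subgroup.center S ≤ A := by
  intro z hz
  by_contra hzA
  apply hna
  have hsup := sup_zpowers_eq_top A hAi hzA
  have hZc : IsMulCommutative ↥(Subgroup.zpowers z) := by
    rw [Cfsg.Agent.Lib.Helper4.isMulCommutative_iff]
    intro a ha b hb
    obtain ⟨i, rfl⟩ := Subgroup.mem_zpowers_iff.mp ha
    obtain ⟨j, rfl⟩ := Subgroup.mem_zpowers_iff.mp hb
    exact zpow_mul_comm z i j
  have hcomm : ∀ a ∈ A, ∀ b ∈ Subgroup.zpowers z, a * b = b * a := by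
    intro a _ b hb
    obtain ⟨j, rfl⟩ := Subgroup.mem_zpowers_iff.mp hb
    have h1 : Commute a z := Subgroup.mem_center_iff.mp hz a
    exact h1.zpow_right j
  have h := isMulCommutative_sup hA hZc hcomm
  rw [hsup, Cfsg.Agent.Lib.Helper4.isMulCommutative_iff] at h
  exact ⟨⟨fun a b => h a (Subgroup.mem_top a) b (Subgroup.mem_top b)⟩⟩

/-- the commutator homomorphism `a ↦ [a, g]` on an abelian normal subgroup -/
def commHom {S : Type*} [Group S] (A : Subgroup S) [hAn : A.Normal] (hA : IsMulCommutative ↥A)
    (g : S) : ↥A →* S where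
  toFun a := (a : S) * g * (a : S)⁻¹ * g⁻¹
  map_one' := by simp
  map_mul' := by
    intro a b
    have hAc := (Cfsg.Agent.Lib.Helper4.isMulCommutative_iff A).mp hA
    have hu : g * (b : S)⁻¹ * g⁻¹ ∈ A := hAn.conj_mem _ (A.inv_mem b.2) g
    have hv : g * (a : S)⁻¹ * g⁻¹ ∈ A := hAn.conj_mem _ (A.inv_mem a.2) g
    have hcomm := hAc _ hv _ (A.mul_mem b.2 hu)
    calc ((a * b : ↥A) : S) * g * ((a * b : ↥A) : S)⁻¹ * g⁻¹
        = (a : S) * (((b : S) * (g * (b : S)⁻¹ * g⁻¹)) * (g * (a : S)⁻¹ * g⁻¹)) := by
          rw [Subgroup.coe_mul]; group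
      _ = (a : S) * ((g * (a : S)⁻¹ * g⁻¹) * ((b : S) * (g * (b : S)⁻¹ * g⁻¹))) := by rw [hcomm]
      _ = ((a : S) * g * (a : S)⁻¹ * g⁻¹) * ((b : S) * g * (b : S)⁻¹ * g⁻¹) := by group

theorem commHom_apply {S : Type*} [Group S] (A : Subgroup S) [A.Normal] (hA : IsMulCommutative ↥A)
    (g : S) (a : ↥A) : commHom A hA g a = (a : S) * g * (a : S)⁻¹ * g⁻¹ := rfl

theorem commHom_ker {S : Type*} [Group S] {p : ℕ} [hp : Fact p.Prime]
    (hna : ¬ IsMulCommutative S) (A : Subgroup S) [A.Normal] (hA : IsMulCommutative ↥A)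
    (hAi : A.index = p) {g : S} (hg : g ∉ A) :
    (commHom A hA g).ker.map A.subtype = Subgroup.center S := by
  have hAc := (Cfsg.Agent.Lib.Helper4.isMulCommutative_iff A).mp hA
  have hsup := sup_zpowers_eq_top A hAi hg
  apply le_antisymm
  · rintro _ ⟨a, ha, rfl⟩
    have ha' : (a : S) * g * (a : S)⁻¹ * g⁻¹ = 1 := ha
    have hag : g * (a : S) = (a : S) * g := by
      calc g * (a : S) = ((a : S) * g * (a : S)⁻¹ * g⁻¹)⁻¹ * ((a : S) * g) := by group
        _ = (a : S) * g := by rw [ha']; group
    have h1 : Subgroup.centralizer ({(a : S)} : Set S) = ⊤ := by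
      rw [eq_top_iff, ← hsup]
      apply sup_le
      · intro b hb
        rw [Subgroup.mem_centralizer_singleton_iff]
        exact hAc b hb a a.2
      · rw [Subgroup.zpowers_le, Subgroup.mem_centralizer_singleton_iff]
        exact hag
    rw [Subgroup.mem_center_iff]
    intro y
    have h2 : y ∈ Subgroup.centralizer ({(a : S)} : Set S) := by rw [h1]; trivial
    rw [Subgroup.mem_centralizer_singleton_iff] at h2
    exact h2
  · intro z hz
    refine ⟨⟨z, center_le_of_index_p hna A hA hAi hz⟩, ?_, rfl⟩
    change z * g * z⁻¹ * g⁻¹ = 1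
    rw [← Subgroup.mem_center_iff.mp hz g]; group

theorem commHom_range {S : Type*} [Group S] [Finite S] {p : ℕ} [hp : Fact p.Prime]
    (A : Subgroup S) [hAn : A.Normal] (hA : IsMulCommutative ↥A)
    (hAi : A.index = p) {g : S} (hg : g ∉ A) :
    (commHom A hA g).range = commutator S := by
  have hAc := (Cfsg.Agent.Lib.Helper4.isMulCommutative_iff A).mp hA
  have hsup := sup_zpowers_eq_top A hAi hg
  have hgen : ∀ K : Subgroup S, A ≤ K → g ∈ K → K = ⊤ := fun K h1 h2 =>
    top_le_iff.mp (hsup ▸ sup_le h1 (Subgroup.zpowers_le.mpr h2))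
  apply le_antisymm
  · rintro _ ⟨a, rfl⟩
    exact Subgroup.commutator_mem_commutator (Subgroup.mem_top (a : S)) (Subgroup.mem_top g)
  · have hIA : (commHom A hA g).range ≤ A := by
      rintro _ ⟨a, rfl⟩
      have h1 : commHom A hA g a = (a : S) * (g * (a : S)⁻¹ * g⁻¹) := by
        rw [commHom_apply]; group
      rw [h1]
      exact A.mul_mem a.2 (hAn.conj_mem _ (A.inv_mem a.2) g)
    haveI hIn : (commHom A hA g).range.Normal := by
      apply normal_of_normalizer_ge (A := A) (B := Subgroup.zpowers g) _ _ hsup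
      · intro b hb
        rw [Subgroup.mem_normalizer_iff]
        intro i
        constructor
        · intro hi
          have h1 : b * i * b⁻¹ = i := by rw [hAc b hb i (hIA hi)]; group
          rw [h1]; exact hi
        · intro hi
          have hiA : i ∈ A := by
            have h2 := hAn.conj_mem _ (hIA hi) b⁻¹
            have h3 : b⁻¹ * (b * i * b⁻¹) * b⁻¹⁻¹ = i := by group
            rwa [h3] at h2
          have h1 : b * i * b⁻¹ = i := by rw [hAc b hb i hiA]; group
          rwa [h1] at hi
      · rw [Subgroup.zpowers_le]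
        apply Cfsg.Agent.Lib.Helper17.mem_normalizer_of_map_conj_le
        rintro _ ⟨_, ⟨a, rfl⟩, rfl⟩
        refine ⟨⟨g * (a : S) * g⁻¹, hAn.conj_mem _ a.2 g⟩, ?_⟩
        rw [commHom_apply, commHom_apply]
        change g * (a : S) * g⁻¹ * g * (g * (a : S) * g⁻¹)⁻¹ * g⁻¹
          = g * ((a : S) * g * (a : S)⁻¹ * g⁻¹) * g⁻¹
        group
    have h_ag : ∀ a ∈ A, (QuotientGroup.mk' (commHom A hA g).range a)
        * (QuotientGroup.mk' (commHom A hA g).range g)
        = (QuotientGroup.mk' (commHom A hA g).range g)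
        * (QuotientGroup.mk' (commHom A hA g).range a) := by
      intro a ha
      have h1 : ⁅a, g⁆ ∈ (commHom A hA g).range := ⟨⟨a, ha⟩, rfl⟩
      have h2 : QuotientGroup.mk' (commHom A hA g).range ⁅a, g⁆ = 1 :=
        (QuotientGroup.eq_one_iff _).mpr h1
      rw [map_commutatorElement, commutatorElement_eq_one_iff_mul_comm] at h2
      exact h2
    have h_g : ∀ y : S, (QuotientGroup.mk' (commHom A hA g).range y)
        * (QuotientGroup.mk' (commHom A hA g).range g)
        = (QuotientGroup.mk' (commHom A hA g).range g)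
        * (QuotientGroup.mk' (commHom A hA g).range y) := by
      intro y
      have h1 := hgen ((Subgroup.centralizer
        {QuotientGroup.mk' (commHom A hA g).range g}).comap (QuotientGroup.mk' _))
        (fun a ha => by
          rw [Subgroup.mem_comap, Subgroup.mem_centralizer_singleton_iff]; exact h_ag a ha)
        (by rw [Subgroup.mem_comap, Subgroup.mem_centralizer_singleton_iff])
      have h2 : y ∈ (Subgroup.centralizer
        {QuotientGroup.mk' (commHom A hA g).range g}).comap (QuotientGroup.mk' _) := by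
        rw [h1]; trivial
      rw [Subgroup.mem_comap, Subgroup.mem_centralizer_singleton_iff] at h2
      exact h2
    have h_a : ∀ a ∈ A, ∀ y : S, (QuotientGroup.mk' (commHom A hA g).range y)
        * (QuotientGroup.mk' (commHom A hA g).range a)
        = (QuotientGroup.mk' (commHom A hA g).range a)
        * (QuotientGroup.mk' (commHom A hA g).range y) := by
      intro a ha y
      have h1 := hgen ((Subgroup.centralizer
        {QuotientGroup.mk' (commHom A hA g).range a}).comap (QuotientGroup.mk' _))
        (fun b hb => by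
          rw [Subgroup.mem_comap, Subgroup.mem_centralizer_singleton_iff, ← map_mul, ← map_mul,
            hAc b hb a ha])
        (by rw [Subgroup.mem_comap, Subgroup.mem_centralizer_singleton_iff]; exact (h_ag a ha).symm)
      have h2 : y ∈ (Subgroup.centralizer
        {QuotientGroup.mk' (commHom A hA g).range a}).comap (QuotientGroup.mk' _) := by
        rw [h1]; trivial
      rw [Subgroup.mem_comap, Subgroup.mem_centralizer_singleton_iff] at h2
      exact h2
    rw [commutator_def, Subgroup.commutator_le]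
    intro x _ y _
    have h1 := hgen ((Subgroup.centralizer
        {QuotientGroup.mk' (commHom A hA g).range y}).comap (QuotientGroup.mk' _))
        (fun b hb => by
          rw [Subgroup.mem_comap, Subgroup.mem_centralizer_singleton_iff]; exact (h_a b hb y).symm)
        (by rw [Subgroup.mem_comap, Subgroup.mem_centralizer_singleton_iff]; exact (h_g y).symm)
    have h2 : x ∈ (Subgroup.centralizer
        {QuotientGroup.mk' (commHom A hA g).range y}).comap (QuotientGroup.mk' _) := by
      rw [h1]; trivial
    rw [Subgroup.mem_comap, Subgroup.mem_centralizer_singleton_iff] at h2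
    rw [← QuotientGroup.eq_one_iff]
    change QuotientGroup.mk' (commHom A hA g).range ⁅x, y⁆ = 1
    rw [map_commutatorElement, commutatorElement_eq_one_iff_mul_comm]
    exact h2

/-- `|S : Z(S)| = p |S'|` for a non-abelian `p`-group with an abelian subgroup of index `p`. -/
theorem index_center_eq {S : Type*} [Group S] [Finite S] (p : ℕ) [hp : Fact p.Prime]
    (hS : IsPGroup p S) (hna : ¬ IsMulCommutative S) (A : Subgroup S) (hA : IsMulCommutative ↥A)
    (hAi : A.index = p) : (Subgroup.center S).index = p * Nat.card (commutator S) := by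
  haveI hAn := normal_of_index_p hS A hAi
  obtain ⟨g, hg⟩ : ∃ g, g ∉ A := by
    by_contra hcon
    push Not at hcon
    have : A = ⊤ := eq_top_iff.mpr fun x _ => hcon x
    rw [this, Subgroup.index_top] at hAi
    exact hp.out.one_lt.ne hAi
  have h1 := Subgroup.card_mul_index (commHom A hA g).ker
  rw [Subgroup.index_ker, commHom_range A hA hAi hg] at h1
  have h2 : Nat.card (commHom A hA g).ker = Nat.card (Subgroup.center S) := by
    rw [← commHom_ker hna A hA hAi hg, Subgroup.card_map_of_injective A.subtype_injective]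
  have h3 := Subgroup.card_mul_index A
  have h4 := Subgroup.card_mul_index (Subgroup.center S)
  rw [h2] at h1
  rw [hAi, ← h1] at h3
  have h5 : Nat.card (Subgroup.center S) * (Subgroup.center S).index
      = Nat.card (Subgroup.center S) * (p * Nat.card (commutator S)) := by
    rw [h4, ← h3]; ring
  exact Nat.eq_of_mul_eq_mul_left Nat.card_pos h5

end Cfsg.Agent.Lib.Helper17
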