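import Cfsg.Agent.Lib.Helper12.Rel
import Cfsg.Agent.Lib.Helper17.Basic

/-!
# `π`-closed groups: basic facts
-/

set_option autoImplicit false

namespace Cfsg.Agent.Lib.Helper17

universe u

/-- all prime divisors of `n` lie in `π` -/
def PiNum (π : Set ℕ) (n : ℕ) : Prop := ∀ p : ℕ, p.Prime → p ∣ n → p ∈ π

/-- `x` is a `π`-element -/
def PiElt (π : Set ℕ) {G : Type u} [Group G] (x : G) : Prop := PiNum π (orderOf x)

theorem PiNum.of_dvd {π : Set ℕ} {m n : ℕ} (h : PiNum π n) (hd : m ∣ n) : PiNum π m :=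
  fun p hp hpm => h p hp (hpm.trans hd)

theorem PiNum.mul {π : Set ℕ} {m n : ℕ} (hm : PiNum π m) (hn : PiNum π n) : PiNum π (m * n) :=
  fun p hp hd => (hp.dvd_mul.mp hd).elim (hm p hp) (hn p hp)

theorem PiNum.coprime {π : Set ℕ} {m n : ℕ} (hm : PiNum π m) (hn : PiNum πᶜ n) : m.Coprime n :=
  Nat.coprime_of_dvd fun k hk h1 h2 => hn k hk h2 (hm k hk h1)

theorem PiNum.prime_pow {π : Set ℕ} {p : ℕ} (hp : p.Prime) (hpπ : p ∈ π) (k : ℕ) : PiNum π (p ^ k) := by
  intro q hq hd
  rw [(Nat.prime_dvd_prime_iff_eq hq hp).mp (hq.dvd_of_dvd_pow hd)]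
  exact hpπ

theorem PiElt.of_pow_eq_one {π : Set ℕ} {G : Type u} [Group G] {x : G} {n : ℕ} (hn : PiNum π n)
    (h : x ^ n = 1) : PiElt π x := hn.of_dvd (orderOf_dvd_of_pow_eq_one h)

theorem PiElt.pow {π : Set ℕ} {G : Type u} [Group G] {x : G} (h : PiElt π x) (k : ℕ) :
    PiElt π (x ^ k) := PiNum.of_dvd h (orderOf_pow_dvd k)

theorem PiElt.map {π : Set ℕ} {G G' : Type u} [Group G] [Group G'] {x : G} (h : PiElt π x)
    (f : G →* G') : PiElt π (f x) := PiNum.of_dvd h (orderOf_map_dvd f x)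

theorem PiElt.conj {π : Set ℕ} {G : Type u} [Group G] {x : G} (h : PiElt π x) (g : G) :
    PiElt π (g * x * g⁻¹) := by
  have : orderOf (g * x * g⁻¹) = orderOf x := (MulAut.conj g).orderOf_eq x
  unfold PiElt
  rw [this]; exact h

theorem PiElt.one (π : Set ℕ) {G : Type u} [Group G] : PiElt π (1 : G) := by
  intro p hp hd
  rw [orderOf_one] at hd
  exact absurd (Nat.dvd_one.mp hd) hp.one_lt.ne'

theorem PiElt.coe_iff {π : Set ℕ} {G : Type u} [Group G] {M : Subgroup G} (x : M) :
    PiElt π (x : G) ↔ PiElt π x := by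
  unfold PiElt
  rw [Subgroup.orderOf_coe]

/-- an element that is both a `π`-element and of `π'`-power trivial order is trivial -/
theorem eq_one_of_piElt {π : Set ℕ} {G : Type u} [Group G] {x : G} (h : PiElt π x) {n : ℕ}
    (hn : PiNum πᶜ n) (hx : x ^ n = 1) : x = 1 := by
  have h1 : orderOf x ∣ n := orderOf_dvd_of_pow_eq_one hx
  have h2 : (orderOf x).Coprime n := PiNum.coprime h hn
  have h3 : orderOf x = 1 := Nat.Coprime.eq_one_of_dvd h2 h1
  exact orderOf_eq_one_iff.mp h3

/-- the elementwise form of the automizer hypothesis -/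
def Star (π : Set ℕ) (G : Type u) [Group G] : Prop :=
  ∀ H : Subgroup G, PiNum πᶜ (Nat.card H) →
    ∀ x ∈ Subgroup.normalizer (H : Set G), PiElt π x → x ∈ Subgroup.centralizer (H : Set G)

theorem star_of_hom {π : Set ℕ} {G : Type u} [Group G] [Finite G]
    (hhom : ∀ H : Subgroup G, H ≠ ⊥ → (∀ p : ℕ, p.Prime → p ∣ Nat.card ↥H → p ∉ π) →
        ∀ p : ℕ, p.Prime → p ∣ (Subgroup.centralizer (H : Set G)).relIndex
          (Subgroup.normalizer (H : Set G)) → p ∉ π) : Star π G := by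
  intro H hH x hxN hx
  by_cases hb : H = ⊥
  · subst hb
    rw [Subgroup.mem_centralizer_iff]
    intro h hh
    rw [SetLike.mem_coe, Subgroup.mem_bot] at hh
    rw [hh, one_mul, mul_one]
  · have h1 : PiNum πᶜ ((Subgroup.centralizer (H : Set G)).relIndex
        (Subgroup.normalizer (H : Set G))) := hhom H hb hH
    have h2 : (⟨x, hxN⟩ : Subgroup.normalizer (H : Set G)) ^
        ((Subgroup.centralizer (H : Set G)).subgroupOf (Subgroup.normalizer (H : Set G))).index ∈
        (Subgroup.centralizer (H : Set G)).subgroupOf (Subgroup.normalizer (H : Set G)) :=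
      Subgroup.pow_index_mem _ _
    rw [Subgroup.mem_subgroupOf] at h2
    have h3 : x ^ ((Subgroup.centralizer (H : Set G)).relIndex
        (Subgroup.normalizer (H : Set G))) ∈ Subgroup.centralizer (H : Set G) := h2
    exact mem_of_pow_mem_of_coprime _ (PiNum.coprime hx h1)
      (by rw [pow_orderOf_eq_one]; exact Subgroup.one_mem _) h3

theorem Star.subgroup {π : Set ℕ} {G : Type u} [Group G] (h : Star π G) (M : Subgroup G) :
    Star π M := by
  intro H hH x hxN hx
  rw [Cfsg.Agent.Lib.Helper12.mem_centralizer_of_map]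
  apply h
  · rw [Subgroup.card_map_of_injective M.subtype_injective]; exact hH
  · exact (Cfsg.Agent.Lib.Helper12.mem_normalizer_of_map H x).mp hxN
  · exact (PiElt.coe_iff x).mpr hx

end Cfsg.Agent.Lib.Helper17
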