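import Cfsg.Agent.Lib.Helper17.PiClosed1

/-!
# `π`-closed groups: `π`-elements centralize `K/A`
-/

set_option autoImplicit false

namespace Cfsg.Agent.Lib.Helper17

universe u

open Cfsg.Agent.Lib.Helper12 in
theorem piSub_normal {π : Set ℕ} {G : Type u} [Group G] (K : Subgroup G) [hK : K.Normal]
    (A : Subgroup G) (hA : ∀ x, x ∈ A ↔ x ∈ K ∧ PiElt π x) : A.Normal :=
  ⟨fun a ha g => (hA _).mpr ⟨hK.conj_mem a ((hA a).mp ha).1 g, ((hA a).mp ha).2.conj g⟩⟩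

theorem exists_pPart {G : Type u} [Group G] [Finite G] {p : ℕ} (hp : p.Prime) (n : G)
    (K : Subgroup G) (k : ℕ) (hnK : n ^ (p ^ k) ∈ K) :
    ∃ n' ∈ Subgroup.zpowers n, (∃ a : ℕ, n' ^ (p ^ a) = 1) ∧ n'⁻¹ * n ∈ K := by
  obtain ⟨a, m, hm, ho⟩ := Nat.exists_eq_pow_mul_and_not_dvd (orderOf_pos n).ne' p hp.ne_one
  have hcop : Nat.Coprime m (p ^ k) :=
    Nat.Coprime.pow_right k ((Nat.Prime.coprime_iff_not_dvd hp).mpr hm).symm
  have h1 : (1 : ℤ) = m * Nat.gcdA m (p ^ k) + (p ^ k : ℕ) * Nat.gcdB m (p ^ k) := by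
    have := Nat.gcd_eq_gcd_ab m (p ^ k)
    rw [hcop] at this
    exact_mod_cast this
  refine ⟨(n ^ m) ^ (Nat.gcdA m (p ^ k)), ?_, ⟨a, ?_⟩, ?_⟩
  · exact Subgroup.zpow_mem _ (Subgroup.pow_mem _ (Subgroup.mem_zpowers n) m) _
  · rw [← zpow_natCast, ← zpow_mul, mul_comm, zpow_mul, zpow_natCast, ← pow_mul, mul_comm m, ← ho,
      pow_orderOf_eq_one, one_zpow]
  · have h2 : n = (n ^ m) ^ (Nat.gcdA m (p ^ k)) * (n ^ (p ^ k)) ^ (Nat.gcdB m (p ^ k)) := by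
      rw [← zpow_natCast, ← zpow_natCast, ← zpow_mul, ← zpow_mul, ← zpow_add, ← h1, zpow_one]
    have h3 : ((n ^ m) ^ (Nat.gcdA m (p ^ k)))⁻¹ * n = (n ^ (p ^ k)) ^ (Nat.gcdB m (p ^ k)) := by
      rw [inv_mul_eq_iff_eq_mul]; exact h2
    rw [h3]; exact K.zpow_mem hnK _

open Cfsg.Agent.Lib.Helper12 in
theorem exists_syl_centralized {π : Set ℕ} {G : Type u} [Group G] [Finite G] (hstar : Star π G)
    (K : Subgroup G) [hK : K.Normal] (A : Subgroup G) (hA : ∀ x, x ∈ A ↔ x ∈ K ∧ PiElt π x)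
    {p : ℕ} [hp : Fact p.Prime] (hpπ : p ∈ π) {x : G} {k : ℕ} (hx : x ^ (p ^ k) = 1)
    {r : ℕ} [hr : Fact r.Prime] (hrπ : r ∉ π) :
    ∃ R, IsSylIn r R K ∧ ∀ u ∈ R, x * u * x⁻¹ * u⁻¹ ∈ A := by
  haveI hAn : A.Normal := piSub_normal K A hA
  obtain ⟨R₁, hR₁, -⟩ := exists_isSylIn_ge (p := r) (H := K) (R := ⊥) bot_le IsPGroup.of_bot
  obtain ⟨Y, hY⟩ : ∃ Y, Y = K ⊔ Subgroup.zpowers x := ⟨_, rfl⟩
  have hKY : K ≤ Y := hY ▸ le_sup_left
  have hxY : x ∈ Y := hY ▸ (le_sup_right : Subgroup.zpowers x ≤ _) (Subgroup.mem_zpowers x)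
  have hYN : Y ≤ Subgroup.normalizer (K : Set G) := by
    rw [Subgroup.normalizer_eq_top_iff.mpr hK]; exact le_top
  obtain ⟨k₁, hk₁, n, hn, hxkn⟩ := frattini_rel hKY hYN hR₁ hxY
  obtain ⟨hnY, hnN⟩ := Subgroup.mem_inf.mp hn
  have hnK : n ^ (p ^ k) ∈ K := by
    rw [← QuotientGroup.eq_one_iff, ← QuotientGroup.mk'_apply, map_pow]
    have h1 : QuotientGroup.mk' K x = QuotientGroup.mk' K n := by
      have h0 : QuotientGroup.mk' K k₁ = 1 := (QuotientGroup.eq_one_iff k₁).mpr hk₁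
      rw [hxkn, map_mul, h0, one_mul]
    rw [← h1, ← map_pow, hx, map_one]
  obtain ⟨n', hn'z, ⟨a, hn'a⟩, hn'K⟩ := exists_pPart hp.out n K k hnK
  have hn'N : n' ∈ Subgroup.normalizer (R₁ : Set G) :=
    (Subgroup.zpowers_le.mpr hnN) hn'z
  have hn'π : PiElt π n' := PiElt.of_pow_eq_one (PiNum.prime_pow hp.out hpπ a) hn'a
  have hR₁π : PiNum πᶜ (Nat.card R₁) := by
    obtain ⟨j, hj⟩ := IsPGroup.iff_card.mp hR₁.2.1
    rw [hj]; exact PiNum.prime_pow hr.out hrπ j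
  have hn'C : n' ∈ Subgroup.centralizer (R₁ : Set G) := hstar R₁ hR₁π n' hn'N hn'π
  have hn'Y : Subgroup.zpowers n' ≤ Y :=
    Subgroup.zpowers_le.mpr ((Subgroup.zpowers_le.mpr hnY) hn'z)
  obtain ⟨P₂, hP₂, hn'P₂⟩ := exists_isSylIn_ge (p := p) hn'Y (isPGroup_zpowers_of_pow_eq_one hn'a)
  obtain ⟨y, hyY, hy⟩ := hP₂.exists_conj_le (R := Subgroup.zpowers x)
    (hY ▸ le_sup_right) (isPGroup_zpowers_of_pow_eq_one hx)
  obtain ⟨s, hs⟩ : ∃ s, s = y * x * y⁻¹ := ⟨_, rfl⟩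
  have hsP₂ : s ∈ P₂ := hs ▸ hy (conj_mem_cj (Subgroup.mem_zpowers x))
  have hYle : Y ≤ K ⊔ Subgroup.zpowers n' := by
    rw [hY]
    apply sup_le le_sup_left
    rw [Subgroup.zpowers_le]
    have e : x = k₁ * n' * (n'⁻¹ * n) := by rw [hxkn]; group
    rw [e]
    exact Subgroup.mul_mem _ (Subgroup.mul_mem _ ((le_sup_left : K ≤ _) hk₁)
      ((le_sup_right : Subgroup.zpowers n' ≤ _) (Subgroup.mem_zpowers n')))
      ((le_sup_left : K ≤ _) hn'K)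
  obtain ⟨k₂, hk₂, z, hz, hkz⟩ := Subgroup.mem_sup_of_normal_left.mp (hYle (hP₂.1 hsP₂))
  have hk₂P : k₂ ∈ P₂ := by
    have : k₂ = s * z⁻¹ := by rw [← hkz]; group
    rw [this]
    exact P₂.mul_mem hsP₂ (P₂.inv_mem (hn'P₂ hz))
  have hk₂A : k₂ ∈ A := by
    rw [hA]
    refine ⟨hk₂, ?_⟩
    obtain ⟨j, hj⟩ := hP₂.2.1 ⟨k₂, hk₂P⟩
    exact PiElt.of_pow_eq_one (PiNum.prime_pow hp.out hpπ j) (congrArg Subtype.val hj)
  have hzC : z ∈ Subgroup.centralizer (R₁ : Set G) := (Subgroup.zpowers_le.mpr hn'C) hz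
  refine ⟨cj y⁻¹ R₁, ?_, ?_⟩
  · have := hR₁.cj y⁻¹
    rwa [cj_eq_of_normal y⁻¹ K] at this
  · intro u hu
    rw [mem_cj, inv_inv] at hu
    obtain ⟨u₁, hu₁⟩ : ∃ u₁, u₁ = y * u * y⁻¹ := ⟨_, rfl⟩
    rw [← hu₁] at hu
    have h1 : z * u₁ * z⁻¹ = u₁ := by
      have := (Subgroup.mem_centralizer_iff.mp hzC) u₁ hu
      rw [← this]; group
    have h2 : s * u₁ * s⁻¹ * u₁⁻¹ ∈ A := by
      have e : s * u₁ * s⁻¹ * u₁⁻¹ = k₂ * (z * u₁ * z⁻¹) * k₂⁻¹ * u₁⁻¹ := by rw [← hkz]; group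
      rw [e, h1]
      have e2 : k₂ * u₁ * k₂⁻¹ * u₁⁻¹ = k₂ * (u₁ * k₂⁻¹ * u₁⁻¹) := by group
      rw [e2]
      exact A.mul_mem hk₂A (hAn.conj_mem _ (A.inv_mem hk₂A) u₁)
    have e3 : x * u * x⁻¹ * u⁻¹ = y⁻¹ * (s * u₁ * s⁻¹ * u₁⁻¹) * y⁻¹⁻¹ := by
      rw [hs, hu₁]; group
    rw [e3]
    exact hAn.conj_mem _ h2 y⁻¹

theorem comm_mod_iff {G : Type u} [Group G] (A : Subgroup G) [A.Normal] (x u : G) :
    x * u * x⁻¹ * u⁻¹ ∈ A ↔
      QuotientGroup.mk' A u * QuotientGroup.mk' A x = QuotientGroup.mk' A x * QuotientGroup.mk' A u := by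
  rw [← QuotientGroup.eq_one_iff, ← QuotientGroup.mk'_apply, map_mul, map_mul, map_mul, map_inv,
    map_inv, mul_inv_eq_one, mul_inv_eq_iff_eq_mul]
  exact eq_comm

open Cfsg.Agent.Lib.Helper12 in
theorem cen_of_pElt {π : Set ℕ} {G : Type u} [Group G] [Finite G] (hstar : Star π G)
    (K : Subgroup G) [hK : K.Normal] (A : Subgroup G) (hA : ∀ x, x ∈ A ↔ x ∈ K ∧ PiElt π x)
    {p : ℕ} [hp : Fact p.Prime] (hpπ : p ∈ π) {x : G} {k : ℕ} (hx : x ^ (p ^ k) = 1) :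
    ∀ u ∈ K, x * u * x⁻¹ * u⁻¹ ∈ A := by
  haveI hAn : A.Normal := piSub_normal K A hA
  obtain ⟨D, hD⟩ : ∃ D, D = K ⊓ (Subgroup.centralizer {QuotientGroup.mk' A x}).comap
    (QuotientGroup.mk' A) := ⟨_, rfl⟩
  have hDmem : ∀ u, u ∈ D ↔ u ∈ K ∧ x * u * x⁻¹ * u⁻¹ ∈ A := by
    intro u
    rw [hD, Subgroup.mem_inf, Subgroup.mem_comap, Subgroup.mem_centralizer_singleton_iff, comm_mod_iff]
  have hidx : D.relIndex K = 1 := by
    rw [Nat.eq_one_iff_not_exists_prime_dvd]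
    intro r hr hrd
    haveI : Fact r.Prime := ⟨hr⟩
    have key : ∃ R, IsSylIn r R K ∧ R ≤ D := by
      by_cases hrπ : r ∈ π
      · obtain ⟨R₁, hR₁, -⟩ := exists_isSylIn_ge (p := r) (H := K) (R := ⊥) bot_le IsPGroup.of_bot
        refine ⟨R₁, hR₁, ?_⟩
        intro u hu
        have huA : u ∈ A := by
          rw [hA]
          refine ⟨hR₁.1 hu, ?_⟩
          obtain ⟨j, hj⟩ := hR₁.2.1 ⟨u, hu⟩
          exact PiElt.of_pow_eq_one (PiNum.prime_pow hr hrπ j) (congrArg Subtype.val hj)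
        rw [hDmem]
        exact ⟨hR₁.1 hu, A.mul_mem (hAn.conj_mem _ huA x) (A.inv_mem huA)⟩
      · obtain ⟨R, hR, hRc⟩ := exists_syl_centralized hstar K A hA hpπ hx hrπ
        exact ⟨R, hR, fun u hu => (hDmem u).mpr ⟨hR.1 hu, hRc u hu⟩⟩
    obtain ⟨R, hR, hRD⟩ := key
    exact hR.2.2 (hrd.trans (Subgroup.relIndex_dvd_of_le_left K hRD))
  intro u hu
  exact ((hDmem u).mp (Subgroup.relIndex_eq_one.mp hidx hu)).2

theorem cen_of_piElt {π : Set ℕ} {G : Type u} [Group G] [Finite G] (hstar : Star π G)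
    (K : Subgroup G) [hK : K.Normal] (A : Subgroup G) (hA : ∀ x, x ∈ A ↔ x ∈ K ∧ PiElt π x)
    {x : G} (hx : PiElt π x) : ∀ u ∈ K, x * u * x⁻¹ * u⁻¹ ∈ A := by
  haveI hAn : A.Normal := piSub_normal K A hA
  obtain ⟨C, hC⟩ : ∃ C, C = (Subgroup.centralizer ((K.map (QuotientGroup.mk' A) : Subgroup (G ⧸ A)) :
    Set (G ⧸ A))).comap (QuotientGroup.mk' A) := ⟨_, rfl⟩
  have hCmem : ∀ g, g ∈ C ↔ ∀ u ∈ K, g * u * g⁻¹ * u⁻¹ ∈ A := by
    intro g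
    rw [hC, Subgroup.mem_comap, Subgroup.mem_centralizer_iff]
    constructor
    · intro h u hu
      rw [comm_mod_iff]
      exact h _ ⟨u, hu, rfl⟩
    · rintro h _ ⟨u, hu, rfl⟩
      exact (comm_mod_iff A g u).mp (h u hu)
  have main : ∀ n : ℕ, PiNum π n → n ≠ 0 → ∀ g : G, g ^ n = 1 → g ∈ C := by
    intro n
    induction n using Nat.strong_induction_on with
    | _ n ih =>
    intro hn hn0 g hg
    by_cases h1 : n = 1
    · rw [h1, pow_one] at hg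
      rw [hg]; exact C.one_mem
    · have hp : n.minFac.Prime := Nat.minFac_prime h1
      haveI : Fact n.minFac.Prime := ⟨hp⟩
      have hpπ : n.minFac ∈ π := hn _ hp (Nat.minFac_dvd n)
      obtain ⟨e, m, hm, ho⟩ := Nat.exists_eq_pow_mul_and_not_dvd hn0 n.minFac hp.ne_one
      have he : e ≠ 0 := by
        intro he
        rw [he, pow_zero, one_mul] at ho
        exact hm (ho ▸ Nat.minFac_dvd n)
      have hm0 : m ≠ 0 := by
        intro h0; rw [h0, mul_zero] at ho; exact hn0 ho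
      have hlt : m < n := by
        have h2 : 2 ≤ n.minFac ^ e :=
          le_trans hp.two_le (Nat.le_self_pow he _)
        have hmpos : 0 < m := Nat.pos_of_ne_zero hm0
        calc m < 2 * m := by omega
          _ ≤ n.minFac ^ e * m := Nat.mul_le_mul_right m h2
          _ = n := ho.symm
      have hcop : Nat.Coprime m (n.minFac ^ e) :=
        Nat.Coprime.pow_right e ((Nat.Prime.coprime_iff_not_dvd hp).mpr hm).symm
      have ha : g ^ m ∈ C := by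
        rw [hCmem]
        apply cen_of_pElt hstar K A hA hpπ (k := e)
        rw [← pow_mul, mul_comm, ← ho, hg]
      have hb : g ^ (n.minFac ^ e) ∈ C := by
        apply ih m hlt (hn.of_dvd ⟨n.minFac ^ e, by rw [mul_comm]; exact ho⟩) hm0
        rw [← pow_mul, ← ho, hg]
      exact mem_of_pow_mem_of_coprime C hcop ha hb
  exact (hCmem x).mp (main (orderOf x) hx (orderOf_pos x).ne' x (pow_orderOf_eq_one x))

end Cfsg.Agent.Lib.Helper17
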