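import Cfsg.Agent.Lib.Helper17.PiClosed2

/-!
# `π`-closed groups: extensions
-/

set_option autoImplicit false

namespace Cfsg.Agent.Lib.Helper17

universe u

theorem card_map_mk_eq {G : Type u} [Group G] (U W : Subgroup G) [U.Normal] :
    Nat.card (W.map (QuotientGroup.mk' U)) = U.relIndex W := by
  have h2 : U = (⊥ : Subgroup (G ⧸ U)).comap (QuotientGroup.mk' U) := by
    rw [MonoidHom.comap_bot, QuotientGroup.ker_mk']
  conv_rhs => rw [h2]
  rw [Subgroup.relIndex_comap, Subgroup.relIndex_bot_left]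

open Cfsg.Agent.Lib.Helper12 in
theorem piClosed_layer1 {π : Set ℕ} {G : Type u} [Group G] [Finite G] (hstar : Star π G)
    (K : Subgroup G) [hK : K.Normal] (A : Subgroup G) (hA : ∀ x, x ∈ A ↔ x ∈ K ∧ PiElt π x)
    (hQ : ∀ g : G, PiElt π (QuotientGroup.mk' K g)) :
    ∃ E : Subgroup G, ∀ x, x ∈ E ↔ PiElt π x := by
  haveI hAn : A.Normal := piSub_normal K A hA
  obtain ⟨Kb, hKb⟩ : ∃ Kb, Kb = K.map (QuotientGroup.mk' A) := ⟨_, rfl⟩
  haveI hKbn : Kb.Normal := hKb ▸ hK.map _ (QuotientGroup.mk'_surjective A)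
  have hpowK : ∀ g : G, g ^ orderOf (QuotientGroup.mk' K g) ∈ K := by
    intro g
    rw [← QuotientGroup.eq_one_iff, ← QuotientGroup.mk'_apply, map_pow, pow_orderOf_eq_one]
  have hKbπ : PiNum πᶜ (Nat.card Kb) := by
    intro q hq hd hqπ
    haveI : Fact q.Prime := ⟨hq⟩
    rw [hKb, card_map_mk_eq] at hd
    obtain ⟨Q, hQs, -⟩ := exists_isSylIn_ge (p := q) (H := K) (R := ⊥) bot_le IsPGroup.of_bot
    have hQA : Q ≤ A := by
      intro u hu
      rw [hA]
      refine ⟨hQs.1 hu, ?_⟩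
      obtain ⟨j, hj⟩ := hQs.2.1 ⟨u, hu⟩
      exact PiElt.of_pow_eq_one (PiNum.prime_pow hq hqπ j) (congrArg Subtype.val hj)
    exact hQs.2.2 (hd.trans (Subgroup.relIndex_dvd_of_le_left K hQA))
  have hidxπ : PiNum π Kb.index := by
    intro q hq hd
    haveI : Fact q.Prime := ⟨hq⟩
    rw [Subgroup.index_eq_card] at hd
    obtain ⟨z, hz⟩ := exists_prime_orderOf_dvd_card' q hd
    obtain ⟨gb, rfl⟩ := QuotientGroup.mk'_surjective Kb z
    obtain ⟨g, rfl⟩ := QuotientGroup.mk'_surjective A gb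
    apply hQ g q hq
    rw [← hz]
    apply orderOf_dvd_of_pow_eq_one
    rw [← map_pow, ← map_pow]
    apply (QuotientGroup.eq_one_iff _).mpr
    rw [hKb]
    exact ⟨_, hpowK g, rfl⟩
  obtain ⟨Eb, hEb⟩ := Subgroup.exists_right_complement'_of_coprime (N := Kb)
    (PiNum.coprime hidxπ hKbπ).symm
  have hfw : ∀ x : G, QuotientGroup.mk' A x ∈ Eb → PiElt π x := by
    intro x hx
    have h1 := hpowK x
    have h2 : QuotientGroup.mk' A (x ^ orderOf (QuotientGroup.mk' K x)) = 1 := by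
      apply Subgroup.disjoint_def.mp hEb.disjoint
      · rw [hKb]; exact ⟨_, h1, rfl⟩
      · rw [map_pow]; exact Eb.pow_mem hx _
    have h3 : x ^ orderOf (QuotientGroup.mk' K x) ∈ A := (QuotientGroup.eq_one_iff _).mp h2
    have h4 : PiElt π (x ^ orderOf (QuotientGroup.mk' K x)) := ((hA _).mp h3).2
    apply PiElt.of_pow_eq_one (PiNum.mul (hQ x) h4)
    rw [pow_mul, pow_orderOf_eq_one]
  refine ⟨Eb.comap (QuotientGroup.mk' A), fun x => ⟨fun hx => hfw x hx, fun hx => ?_⟩⟩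
  rw [Subgroup.mem_comap]
  obtain ⟨⟨kb, eb⟩, hke, -⟩ := hEb.existsUnique (QuotientGroup.mk' A x)
  change (kb : G ⧸ A) * (eb : G ⧸ A) = QuotientGroup.mk' A x at hke
  have hKbel : ∀ z ∈ Kb, ∃ k ∈ K, QuotientGroup.mk' A k = z := by
    intro z hz
    rw [hKb] at hz
    exact hz
  obtain ⟨k, hk, hkk⟩ := hKbel _ kb.2
  obtain ⟨e, he⟩ := QuotientGroup.mk'_surjective A (eb : G ⧸ A)
  have heπ : PiElt π e := hfw e (he ▸ eb.2)
  have hcomm : Commute (QuotientGroup.mk' A k) (QuotientGroup.mk' A e) :=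
    (comm_mod_iff A e k).mp (cen_of_piElt hstar K A hA heπ k hk)
  have hn : (QuotientGroup.mk' A k) ^ (orderOf x * orderOf e) = 1 := by
    have h1 : (QuotientGroup.mk' A k * QuotientGroup.mk' A e) ^ (orderOf x * orderOf e) = 1 := by
      rw [hkk, he, hke, ← map_pow, pow_mul, pow_orderOf_eq_one, one_pow, map_one]
    rw [hcomm.mul_pow] at h1
    have h2 : (QuotientGroup.mk' A e) ^ (orderOf x * orderOf e) = 1 := by
      rw [← map_pow, mul_comm, pow_mul, pow_orderOf_eq_one, one_pow, map_one]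
    rwa [h2, mul_one] at h1
  have hk1 : QuotientGroup.mk' A k = 1 := by
    apply eq_one_of_piElt (PiElt.of_pow_eq_one (PiNum.mul hx heπ) hn) hKbπ
    rw [hkk]
    have : kb ^ Nat.card Kb = 1 := pow_card_eq_one'
    exact congrArg Subtype.val this
  rw [← hke, ← hkk, hk1, one_mul]
  exact eb.2

theorem piClosed_ext {π : Set ℕ} {G : Type u} [Group G] [Finite G] (hstar : Star π G)
    (K : Subgroup G) [hK : K.Normal] (A : Subgroup G) (hA : ∀ x, x ∈ A ↔ x ∈ K ∧ PiElt π x)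
    (L : Subgroup (G ⧸ K)) (hL : ∀ y, y ∈ L ↔ PiElt π y) :
    ∃ E : Subgroup G, ∀ x, x ∈ E ↔ PiElt π x := by
  obtain ⟨M, hM⟩ : ∃ M, M = L.comap (QuotientGroup.mk' K) := ⟨_, rfl⟩
  have hMmem : ∀ g, g ∈ M ↔ PiElt π (QuotientGroup.mk' K g) := by
    intro g; rw [hM, Subgroup.mem_comap, hL]
  have hA' : ∀ x : M, x ∈ A.subgroupOf M ↔ x ∈ K.subgroupOf M ∧ PiElt π x := by
    intro x
    rw [Subgroup.mem_subgroupOf, Subgroup.mem_subgroupOf, hA, PiElt.coe_iff]
  have hQ' : ∀ g : M, PiElt π (QuotientGroup.mk' (K.subgroupOf M) g) := by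
    intro g
    apply PiElt.of_pow_eq_one ((hMmem g).mp g.2)
    rw [← map_pow]
    apply (QuotientGroup.eq_one_iff _).mpr
    rw [Subgroup.mem_subgroupOf]
    change (g : G) ^ orderOf (QuotientGroup.mk' K (g : G)) ∈ K
    rw [← QuotientGroup.eq_one_iff, ← QuotientGroup.mk'_apply, map_pow, pow_orderOf_eq_one]
  obtain ⟨E', hE'⟩ := piClosed_layer1 (hstar.subgroup M) (K.subgroupOf M) (A.subgroupOf M) hA' hQ'
  refine ⟨E'.map M.subtype, fun x => ⟨?_, fun hx => ?_⟩⟩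
  · rintro ⟨e, he, rfl⟩
    exact (PiElt.coe_iff e).mpr ((hE' e).mp he)
  · have hxM : x ∈ M := (hMmem x).mpr (hx.map _)
    exact ⟨⟨x, hxM⟩, (hE' _).mpr ((PiElt.coe_iff (⟨x, hxM⟩ : M)).mp hx), rfl⟩

end Cfsg.Agent.Lib.Helper17
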