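import Mathlib
import Cfsg.Agent.Lib.Helper17.DStar2

set_option autoImplicit false

namespace Cfsg.Agent.Lib.Helper17

open Subgroup
open scoped commutatorElement

variable {G : Type*} [Group G]

/-- The counting core of Thompson's replacement theorem, valid in any finite group: if `E` is abelian of
maximal order, `D` is abelian and all `[x, e]` (`e ∈ E`) lie in `D`, then `[x, E] C_E([x, E])` is again abelian
of maximal order. -/
theorem replacement_core [Finite G] {E D : Subgroup G}
    (hE : E ∈ Cfsg.maxAbelianSubgroups G) (hD : IsMulCommutative D) (x : G)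
    (hx : ∀ e ∈ E, x * e * x⁻¹ * e⁻¹ ∈ D) :
    ∃ E' ∈ Cfsg.maxAbelianSubgroups G, E ⊓ D ≤ E' ∧ (∀ e ∈ E, x * e * x⁻¹ * e⁻¹ ∈ E') ∧
      E' ≤ closure ((fun e => x * e * x⁻¹ * e⁻¹) '' (E : Set G)) ⊔ E := by
  classical
  have hEc := hE.1
  obtain ⟨m, hm⟩ : ∃ m : G → G, ∀ e, m e = x * e * x⁻¹ * e⁻¹ := ⟨_, fun _ => rfl⟩
  have hmD : ∀ e ∈ E, m e ∈ D := by
    intro e he
    rw [hm]
    exact hx e he
  obtain ⟨M, hM⟩ : ∃ M : Subgroup G, M = closure (m '' (E : Set G)) := ⟨_, rfl⟩
  have hmM : ∀ e ∈ E, m e ∈ M := by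
    intro e he
    rw [hM]
    exact subset_closure ⟨e, he, rfl⟩
  have hMD : M ≤ D := by
    rw [hM, closure_le]
    rintro _ ⟨e, he, rfl⟩
    exact hmD e he
  have hMc : IsMulCommutative M := isMulCommutative_of_le hD hMD
  obtain ⟨C, hC⟩ : ∃ C : Subgroup G, C = E ⊓ centralizer (M : Set G) := ⟨_, rfl⟩
  have hCE : C ≤ E := by rw [hC]; exact inf_le_left
  have hCc : IsMulCommutative C := isMulCommutative_of_le hEc hCE
  have hE'c : IsMulCommutative ↥(M ⊔ C) :=
    isMulCommutative_sup hMc hCc (by rw [hC]; exact inf_le_right)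
  have key : ∀ k ∈ E, m k ∈ E → k ∈ C := by
    intro k hk hmk
    rw [hC]
    refine Subgroup.mem_inf.mpr ⟨hk, ?_⟩
    have hle : M ≤ centralizer ({k} : Set G) := by
      rw [hM, closure_le]
      rintro _ ⟨f, hf, rfl⟩
      change m f ∈ centralizer ({k} : Set G)
      rw [mem_centralizer_singleton_iff]
      -- k' = x k x⁻¹ ∈ E
      have hk' : x * k * x⁻¹ ∈ E := by
        have : x * k * x⁻¹ = m k * k := by rw [hm]; group
        rw [this]; exact mul_mem hmk hk
      have c1 : Commute (x * k * x⁻¹) f := setLike_mul_comm hk' hf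
      have c2 : Commute (x * k * x⁻¹) (x * f * x⁻¹) := by
        have c0 : Commute k f := setLike_mul_comm hk hf
        have := c0.conj x
        simpa [Commute, SemiconjBy, mul_assoc] using (by
          have h3 : k * f = f * k := c0
          calc x * k * x⁻¹ * (x * f * x⁻¹) = x * (k * f) * x⁻¹ := by group
            _ = x * (f * k) * x⁻¹ := by rw [h3]
            _ = x * f * x⁻¹ * (x * k * x⁻¹) := by group : x * k * x⁻¹ * (x * f * x⁻¹) = x * f * x⁻¹ * (x * k * x⁻¹))
      have c3 : Commute (x * k * x⁻¹) (m f) := by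
        rw [hm]
        exact c2.mul_right c1.inv_right
      have c4 : Commute (m k) (m f) := setLike_mul_comm (hmD k hk) (hmD f hf)
      have hkk : k = (m k)⁻¹ * (x * k * x⁻¹) := by rw [hm]; group
      have c5 : Commute k (m f) := by
        rw [hkk]
        exact c4.inv_left.mul_left c3
      exact c5.symm
    rw [mem_centralizer_iff]
    intro y hy
    have := hle hy
    rw [mem_centralizer_singleton_iff] at this
    exact this
  have key2 : ∀ e ∈ E, ∀ e' ∈ E, (m e')⁻¹ * m e ∈ E → e'⁻¹ * e ∈ C := by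
    intro e he e' he' h
    apply key _ (mul_mem (inv_mem he') he)
    have h1 : m (e'⁻¹ * e) = e'⁻¹ * ((m e')⁻¹ * m e) * e' := by
      rw [hm, hm, hm]; group
    rw [h1]
    exact mul_mem (mul_mem (inv_mem he') h) he'
  have hidx : C.relIndex E ≤ E.relIndex M := by
    unfold relIndex index
    apply Nat.card_le_card_of_injective
      (fun q : ↥E ⧸ C.subgroupOf E => (QuotientGroup.mk (⟨m q.out, hmM _ q.out.2⟩ : ↥M) : ↥M ⧸ E.subgroupOf M))
    intro q q' hqq
    simp only at hqq
    rw [QuotientGroup.eq] at hqq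
    have h1 : (m q.out)⁻¹ * m q'.out ∈ E := by
      simpa [mem_subgroupOf] using hqq
    have h2 := key2 _ q'.out.2 _ q.out.2 h1
    rw [← QuotientGroup.out_eq' q, ← QuotientGroup.out_eq' q', QuotientGroup.eq]
    simpa [mem_subgroupOf] using h2
  have hMCE : M ⊓ C = M ⊓ E := by
    apply le_antisymm (inf_le_inf_left _ hCE)
    intro y hy
    obtain ⟨hyM, hyE⟩ := Subgroup.mem_inf.mp hy
    refine Subgroup.mem_inf.mpr ⟨hyM, ?_⟩
    rw [hC]
    refine Subgroup.mem_inf.mpr ⟨hyE, ?_⟩
    exact (le_centralizer_iff_isMulCommutative.mpr hMc) hyM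
  have hcard : Nat.card E ≤ Nat.card ↥(M ⊔ C) := by
    have h1 := card_mul_le_sup_inf M C
    rw [hMCE] at h1
    have h2 : C.relIndex E * Nat.card C = Nat.card E := relIndex_mul_card_of_le hCE
    have h3 : (M ⊓ E).relIndex M * Nat.card ↥(M ⊓ E) = Nat.card M := relIndex_mul_card_of_le inf_le_left
    rw [inf_comm, Subgroup.inf_relIndex_right] at h3
    rw [inf_comm] at h1
    have hpos : 0 < Nat.card ↥(E ⊓ M) := Nat.card_pos
    apply Nat.le_of_mul_le_mul_right _ hpos
    calc Nat.card E * Nat.card ↥(E ⊓ M) = C.relIndex E * Nat.card C * Nat.card ↥(E ⊓ M) := by rw [h2]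
      _ ≤ E.relIndex M * Nat.card C * Nat.card ↥(E ⊓ M) :=
          Nat.mul_le_mul_right _ (Nat.mul_le_mul_right _ hidx)
      _ = (E.relIndex M * Nat.card ↥(E ⊓ M)) * Nat.card C := by ring
      _ = Nat.card M * Nat.card C := by rw [h3]
      _ ≤ _ := h1
  refine ⟨M ⊔ C, ⟨hE'c, fun B hB => (hE.2 B hB).trans hcard⟩, ?_, ?_, ?_⟩
  · refine le_trans ?_ le_sup_right
    rw [hC]
    refine le_inf inf_le_left ?_
    refine inf_le_right.trans ?_
    exact (le_centralizer_iff_isMulCommutative.mpr hD).trans (centralizer_le (by exact_mod_cast hMD))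
  · intro e he
    rw [← hm]
    exact le_sup_left (a := M) (hmM e he)
  · refine sup_le_sup ?_ hCE
    rw [hM]
    apply le_of_eq
    congr 1
    ext y
    simp only [Set.mem_image, hm]

end Cfsg.Agent.Lib.Helper17
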