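import Mathlib
import Cfsg.Agent.S0199
import Cfsg.Prelude.Def_SubgroupEmbedding
import Cfsg.Prelude.Def_Transfer
import Cfsg.Agent.Lib.Helper17.Basic
import Cfsg.Agent.Lib.Helper17.Cores

/-! Involutions, inverted elements of odd order, Baer–Suzuki consequences, Sidki pairs of order ≤ 4. -/

namespace Cfsg.Agent.Lib.Helper17

variable {G : Type*} [Group G]

/-- an element of odd order with square one is trivial -/
theorem eq_one_of_odd_of_sq {h : G} (ho : Odd (orderOf h)) (h2 : h * h = 1) : h = 1 := by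
  have h3 : orderOf h ∣ 2 := orderOf_dvd_of_pow_eq_one (by rw [pow_two]; exact h2)
  rcases (Nat.dvd_prime Nat.prime_two).mp h3 with h1 | h1
  · exact orderOf_eq_one_iff.mp h1
  · rw [h1] at ho; exact absurd ho (by decide)

/-- if `h²` commutes with `k` and `h` has odd order then `h` commutes with `k` -/
theorem commute_of_odd_of_sq {h k : G} (ho : Odd (orderOf h)) (hc : Commute (h * h) k) :
    Commute h k := by
  obtain ⟨m, hm⟩ := ho
  have h1 : h = (h * h) ^ (m + 1) := by
    rw [← pow_two, ← pow_mul]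
    have h2 : 2 * (m + 1) = orderOf h + 1 := by omega
    rw [h2, pow_succ, pow_orderOf_eq_one, one_mul]
  rw [h1]; exact hc.pow_left _

/-- square roots in cyclic groups of odd order -/
theorem exists_sqrt_of_odd {h : G} (ho : Odd (orderOf h)) : ∃ n : ℕ, (h ^ n) * (h ^ n) = h := by
  obtain ⟨m, hm⟩ := ho
  refine ⟨m + 1, ?_⟩
  rw [← pow_add]
  have h2 : m + 1 + (m + 1) = orderOf h + 1 := by omega
  rw [h2, pow_succ, pow_orderOf_eq_one, one_mul]

/-- Baer–Suzuki for involutions: an involution outside `O₂(G)` inverts a nontrivial element of odd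
order. -/
theorem exists_inverted_of_not_mem_pCore [Finite G] {v : G} (hv : v * v = 1)
    (hn : v ∉ Cfsg.pCore 2 G) : ∃ h : G, h ≠ 1 ∧ Odd (orderOf h) ∧ v * h * v⁻¹ = h⁻¹ := by
  by_contra hcon
  push Not at hcon
  apply hn
  have : Fact (Nat.Prime 2) := ⟨Nat.prime_two⟩
  have hvinv : v⁻¹ = v := inv_eq_of_mul_eq_one_left hv
  have hX : IsPGroup 2 (Subgroup.zpowers v) :=
    isPGroup_zpowers_of_pow_eq_one (p := 2) (e := 1) (by rw [pow_one, pow_two]; exact hv)
  suffices key : ∀ g : G, IsPGroup 2 ↥(Subgroup.zpowers v ⊔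
      (Subgroup.zpowers v).map (MulAut.conj g).toMonoidHom) by
    obtain ⟨N, hN, hNp, hle⟩ := Cfsg.Agent.S0199.result (p := 2) (Subgroup.zpowers v) hX key
    exact le_pCore hN hNp (hle (Subgroup.mem_zpowers v))
  · intro g
    obtain ⟨u, hu⟩ : ∃ u, u = g * v * g⁻¹ := ⟨_, rfl⟩
    have huu : u * u = 1 := by
      rw [hu]; calc g * v * g⁻¹ * (g * v * g⁻¹) = g * (v * v) * g⁻¹ := by group
        _ = 1 := by rw [hv]; group
    have huinv : u⁻¹ = u := inv_eq_of_mul_eq_one_left huu
    obtain ⟨d, hd⟩ : ∃ d, d = v * u := ⟨_, rfl⟩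
    have hinv : v * d * v⁻¹ = d⁻¹ := by
      rw [hd, mul_inv_rev, hvinv, huinv, ← mul_assoc, hv, one_mul]
    have hinvpow : ∀ n : ℕ, v * d ^ n * v⁻¹ = (d ^ n)⁻¹ := by
      intro n
      have h1 : v * d ^ n * v⁻¹ = (v * d * v⁻¹) ^ n := (conj_pow (a := v) (b := d) (i := n)).symm
      rw [h1, hinv, inv_pow]
    -- the order of d is a power of 2
    have hdpos : 0 < orderOf d := orderOf_pos d
    obtain ⟨e, m, hm, hem⟩ := Nat.exists_eq_two_pow_mul_odd hdpos.ne'
    have hord : orderOf (d ^ (2 ^ e)) = m := by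
      rw [orderOf_pow' _ (by positivity), hem, Nat.gcd_eq_right (Dvd.intro _ rfl)]
      exact Nat.mul_div_cancel_left _ (by positivity)
    have hd1 : d ^ (2 ^ e) = 1 := by
      by_contra hne
      exact hcon _ hne (by rw [hord]; exact hm) (hinvpow _)
    have hD : IsPGroup 2 (Subgroup.zpowers d) := isPGroup_zpowers_of_pow_eq_one (p := 2) hd1
    have hnorm : Subgroup.zpowers v ≤ Subgroup.normalizer (Subgroup.zpowers d : Set G) := by
      rw [Subgroup.zpowers_le]
      apply mem_normalizer_of_map_conj_le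
      rw [MonoidHom.map_zpowers, Subgroup.zpowers_le]
      change v * d * v⁻¹ ∈ _
      rw [hinv]
      exact inv_mem (Subgroup.mem_zpowers d)
    have hsup : IsPGroup 2 ↥(Subgroup.zpowers v ⊔ Subgroup.zpowers d) :=
      IsPGroup.to_sup_of_normal_right' hX hD hnorm
    apply hsup.to_le
    apply sup_le le_sup_left
    rw [MonoidHom.map_zpowers, Subgroup.zpowers_le]
    change g * v * g⁻¹ ∈ _
    rw [← hu]
    have h2 : u = v * d := by rw [hd, ← mul_assoc, hv, one_mul]
    rw [h2]
    exact mul_mem (Subgroup.mem_sup_left (Subgroup.mem_zpowers v))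
      (Subgroup.mem_sup_right (Subgroup.mem_zpowers d))

theorem eq_one_of_inverted_of_commute {v h : G} (ho : Odd (orderOf h)) (hinv : v * h * v⁻¹ = h⁻¹)
    (hc : v * h = h * v) : h = 1 := by
  rw [hc, mul_inv_cancel_right] at hinv
  exact eq_one_of_odd_of_sq ho (mul_eq_one_iff_eq_inv.mpr hinv)

/-- conjugates of Sidki pairs are Sidki pairs (elementwise form) -/
theorem sidki_conj {V : Subgroup G} (hS : Cfsg.IsSidkiPair V) (x : G) {k v : G} (hv : v ∈ V)
    (ho : Odd (orderOf k)) (hinv : (x * v * x⁻¹) * k * (x * v * x⁻¹)⁻¹ = k⁻¹) :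
    ∃ w ∈ V, w ≠ 1 ∧ (x * w * x⁻¹) * k = k * (x * w * x⁻¹) := by
  have h1 : orderOf (x⁻¹ * k * x) = orderOf k := by
    have := (MulAut.conj x⁻¹).orderOf_eq k
    simpa [MulAut.conj_apply] using this
  obtain ⟨w, hw, hw1, hc⟩ := hS (x⁻¹ * k * x) v hv (by rw [h1]; exact ho) (by
    calc v * (x⁻¹ * k * x) * v⁻¹ = x⁻¹ * ((x * v * x⁻¹) * k * (x * v * x⁻¹)⁻¹) * x := by group
      _ = (x⁻¹ * k * x)⁻¹ := by rw [hinv]; group)
  refine ⟨w, hw, hw1, ?_⟩
  calc x * w * x⁻¹ * k = x * (w * (x⁻¹ * k * x)) * x⁻¹ := by group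
    _ = k * (x * w * x⁻¹) := by rw [hc]; group

theorem sidki_core {V : Subgroup G} (hS : Cfsg.IsSidkiPair V) {a b : G} (ha : a ∈ V) (hb : b ∈ V)
    (hmem : ∀ w ∈ V, w = 1 ∨ w = a ∨ w = b ∨ w = a * b)
    {h k : G} (hho : Odd (orderOf h)) (hko : Odd (orderOf k)) (hh1 : h ≠ 1) (hk1 : k ≠ 1)
    (hah : a * h * a⁻¹ = h⁻¹) (hbh : b * h = h * b)
    (hbk : b * k * b⁻¹ = k⁻¹) (hak : a * k = k * a) : False := by
  obtain ⟨n, hn⟩ := exists_sqrt_of_odd hho
  obtain ⟨x, hx⟩ : ∃ x, x = h ^ n := ⟨_, rfl⟩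
  rw [← hx] at hn
  have hax : a * x * a⁻¹ = x⁻¹ := by
    rw [hx, ← conj_pow, hah, inv_pow]
  have hbx : b * x = x * b := by
    rw [hx]; exact (Commute.pow_right (show Commute b h from hbh) n)
  have hxb : x * b * x⁻¹ = b := by rw [← hbx]; group
  have hxa : x * a * x⁻¹ = h * a := by
    have h1 : a * x⁻¹ * a⁻¹ = x := by
      have h2 := congrArg (·⁻¹) hax
      simpa [mul_assoc] using h2
    have h3 : a * x⁻¹ = x * a := eq_mul_of_mul_inv_eq h1
    rw [mul_assoc, h3, ← mul_assoc, hn]
  have hbk' : b * k = k⁻¹ * b := eq_mul_of_mul_inv_eq hbk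
  have hah' : a * h = h⁻¹ * a := eq_mul_of_mul_inv_eq hah
  obtain ⟨w, hw, hw1, hc⟩ := sidki_conj hS x hb hko (by rw [hxb]; exact hbk)
  have hhk : Commute h k := by
    rcases hmem w hw with rfl | rfl | rfl | rfl
    · exact absurd rfl hw1
    · rw [hxa] at hc
      have h1 : h * k * w = k * h * w := by rw [mul_assoc, ← hak, ← mul_assoc, hc, mul_assoc]
      exact mul_right_cancel h1
    · rw [hxb] at hc
      exact absurd (eq_one_of_inverted_of_commute hko hbk hc) hk1
    · have h1 : x * (a * b) * x⁻¹ = h * a * b := by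
        calc x * (a * b) * x⁻¹ = (x * a * x⁻¹) * (x * b * x⁻¹) := by group
          _ = h * a * b := by rw [hxa, hxb]
      rw [h1] at hc
      have hak' : a * k⁻¹ = k⁻¹ * a := ((show Commute a k from hak).inv_right).eq
      have h2 : h * k⁻¹ * (a * b) = k * h * (a * b) := by
        calc h * k⁻¹ * (a * b) = h * (k⁻¹ * a) * b := by group
          _ = h * a * (k⁻¹ * b) := by rw [← hak']; group
          _ = h * a * b * k := by rw [← hbk']; group
          _ = k * h * (a * b) := by rw [hc]; group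
      have h3 : SemiconjBy h k⁻¹ k := mul_right_cancel h2
      have h4 : SemiconjBy h k k⁻¹ := by simpa using h3.inv_right
      have h5 : Commute (h * h) k := h3.mul_left h4
      have h6 : Commute h k := commute_of_odd_of_sq hho h5
      exact h6
  have hodd : Odd (orderOf (h * k)) :=
    Odd.of_dvd_nat (hho.mul hko) hhk.orderOf_mul_dvd_mul_orderOf
  have hbh2 : b * h * b⁻¹ = h := by rw [hbh]; group
  have hak2 : a * k * a⁻¹ = k := by rw [hak]; group
  have hinv : (a * b) * (h * k) * (a * b)⁻¹ = (h * k)⁻¹ := by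
    calc a * b * (h * k) * (a * b)⁻¹ = a * ((b * h * b⁻¹) * (b * k * b⁻¹)) * a⁻¹ := by group
      _ = a * (h * k⁻¹) * a⁻¹ := by rw [hbh2, hbk]
      _ = (a * h * a⁻¹) * (a * k * a⁻¹)⁻¹ := by group
      _ = h⁻¹ * k⁻¹ := by rw [hah, hak2]
      _ = (h * k)⁻¹ := by rw [hhk.eq, mul_inv_rev]
  obtain ⟨w, hw, hw1, hc⟩ := hS (h * k) (a * b) (mul_mem ha hb) hodd hinv
  rcases hmem w hw with rfl | rfl | rfl | rfl
  · exact hw1 rfl
  · -- a commutes with h k and with k hence with h
    have h1 : w * h = h * w := by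
      have h2 : w * h * k = h * w * k := by
        calc w * h * k = w * (h * k) := by group
          _ = h * (k * w) := by rw [hc]; group
          _ = h * w * k := by rw [← hak]; group
      exact mul_right_cancel h2
    exact hh1 (eq_one_of_inverted_of_commute hho hah h1)
  · have h1 : w * k = k * w := by
      have h2 : h * (w * k) = h * (k * w) := by
        calc h * (w * k) = (h * w) * k := by group
          _ = w * (h * k) := by rw [← hbh]; group
          _ = h * (k * w) := by rw [hc]; group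
      exact mul_left_cancel h2
    exact hk1 (eq_one_of_inverted_of_commute hko hbk h1)
  · have h1 : h * k = 1 := eq_one_of_inverted_of_commute hodd hinv hc
    have h2 : k = h⁻¹ := eq_inv_of_mul_eq_one_right h1
    have h3 : a * h = h * a := by
      have h4 : Commute a h⁻¹ := by rw [← h2]; exact hak
      have h5 : Commute a h := by simpa using h4.inv_right
      exact h5.eq
    exact hh1 (eq_one_of_inverted_of_commute hho hah h3)

/-- Sidki's theorem for four-groups given by generators. -/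
theorem sidki_four [Finite G] {V : Subgroup G} (hS : Cfsg.IsSidkiPair V) {a b : G}
    (ha : a ∈ V) (hb : b ∈ V)
    (hmem : ∀ w ∈ V, w = 1 ∨ w = a ∨ w = b ∨ w = a * b)
    (haa : a * a = 1) (hbb : b * b = 1) (hab : a * b = b * a) :
    a ∈ Cfsg.pCore 2 G ∨ b ∈ Cfsg.pCore 2 G ∨ a * b ∈ Cfsg.pCore 2 G := by
  by_contra hcon
  push Not at hcon
  obtain ⟨hna, hnb, hnc⟩ := hcon
  have hcc : (a * b) * (a * b) = 1 := by
    calc a * b * (a * b) = a * (b * a) * b := by group
      _ = (a * a) * (b * b) := by rw [← hab]; group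
      _ = 1 := by rw [haa, hbb, one_mul]
  have hainv : a⁻¹ = a := inv_eq_of_mul_eq_one_left haa
  have hbinv : b⁻¹ = b := inv_eq_of_mul_eq_one_left hbb
  -- key: with (a', b') any generating pair
  have key : ∀ a' b' : G, a' ∈ V → b' ∈ V → (∀ w ∈ V, w = 1 ∨ w = a' ∨ w = b' ∨ w = a' * b') →
      a' * a' = 1 → b' * b' = 1 → a' * b' = b' * a' → b' ∉ Cfsg.pCore 2 G →
      ∀ h : G, h ≠ 1 → Odd (orderOf h) → a' * h * a'⁻¹ = h⁻¹ → b' * h = h * b' → False := by
    intro a' b' ha' hb' hmem' haa' hbb' hab' hnb' h hh1 hho hah hbh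
    obtain ⟨k, hk1, hko, hbk⟩ := exists_inverted_of_not_mem_pCore hbb' hnb'
    obtain ⟨w, hw, hw1, hc⟩ := hS k b' hb' hko hbk
    rcases hmem' w hw with rfl | rfl | rfl | rfl
    · exact hw1 rfl
    · exact sidki_core hS ha' hb' hmem' hho hko hh1 hk1 hah hbh hbk hc
    · exact hk1 (eq_one_of_inverted_of_commute hko hbk hc)
    · -- use the pair (a' b', b')
      have hbh2 : b' * h * b'⁻¹ = h := by rw [hbh]; group
      refine sidki_core hS (a := a' * b') (b := b') (mul_mem ha' hb') hb' ?_ hho hko hh1 hk1 ?_ hbh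
        hbk hc
      · intro w hw
        have h1 : a' * b' * b' = a' := by rw [mul_assoc, hbb', mul_one]
        rw [h1]
        rcases hmem' w hw with h | h | h | h
        · exact Or.inl h
        · exact Or.inr (Or.inr (Or.inr h))
        · exact Or.inr (Or.inr (Or.inl h))
        · exact Or.inr (Or.inl h)
      · calc a' * b' * h * (a' * b')⁻¹ = a' * (b' * h * b'⁻¹) * a'⁻¹ := by group
          _ = h⁻¹ := by rw [hbh2, hah]
  obtain ⟨h, hh1, hho, hah⟩ := exists_inverted_of_not_mem_pCore haa hna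
  obtain ⟨w, hw, hw1, hc⟩ := hS h a ha hho hah
  rcases hmem w hw with rfl | rfl | rfl | rfl
  · exact hw1 rfl
  · exact hh1 (eq_one_of_inverted_of_commute hho hah hc)
  · exact key a w ha hb hmem haa hbb hab hnb h hh1 hho hah hc
  · refine key a (a * b) ha (mul_mem ha hb) ?_ haa hcc ?_ hnc h hh1 hho hah hc
    · intro w hw
      have h1 : a * (a * b) = b := by rw [← mul_assoc, haa, one_mul]
      rw [h1]
      rcases hmem w hw with h | h | h | h
      · exact Or.inl h
      · exact Or.inr (Or.inl h)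
      · exact Or.inr (Or.inr (Or.inr h))
      · exact Or.inr (Or.inr (Or.inl h))
    · calc a * (a * b) = a * (b * a) := by rw [hab]
        _ = a * b * a := by group

/-- Sidki's theorem for elementary abelian 2-subgroups of order at most 4. -/
theorem sidki_le_four [Finite G] (V : Subgroup G) (hV : Cfsg.IsElementaryAbelian 2 V) (hV1 : V ≠ ⊥)
    (hS : Cfsg.IsSidkiPair V) (h4 : Nat.card V ≤ 4) : V ⊓ Cfsg.pCore 2 G ≠ ⊥ := by
  classical
  obtain ⟨hcomm, hexp⟩ := hV
  have hsq : ∀ v ∈ V, v * v = 1 := fun v hv => by rw [← pow_two]; exact hexp v hv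
  have hfin : ∀ v ∈ V, v ≠ 1 → v ∈ Cfsg.pCore 2 G → V ⊓ Cfsg.pCore 2 G ≠ ⊥ := by
    intro v hv hv1 hvc hbot
    have h1 : v ∈ V ⊓ Cfsg.pCore 2 G := ⟨hv, hvc⟩
    rw [hbot] at h1
    exact hv1 (Subgroup.mem_bot.mp h1)
  obtain ⟨a, ha, ha1⟩ := (Subgroup.ne_bot_iff_exists_ne_one.mp hV1 : ∃ a : ↥V, a ≠ 1) |>.imp
    (fun a h => h) |> fun ⟨a, h⟩ => (⟨a.1, a.2, fun h' => h (Subtype.ext h')⟩ :
      ∃ a : G, a ∈ V ∧ a ≠ 1)
  by_cases h2 : ∀ w ∈ V, w = 1 ∨ w = a
  · apply hfin a ha ha1
    by_contra hna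
    obtain ⟨h, hh1, hho, hah⟩ := exists_inverted_of_not_mem_pCore (hsq a ha) hna
    obtain ⟨w, hw, hw1, hc⟩ := hS h a ha hho hah
    rcases h2 w hw with rfl | rfl
    · exact hw1 rfl
    · exact hh1 (eq_one_of_inverted_of_commute hho hah hc)
  · push Not at h2
    obtain ⟨b, hb, hb1, hba⟩ := h2
    have hab : a * b = b * a := by
      exact setLike_mul_comm ha hb
    have hab1 : a * b ≠ 1 := by
      intro h
      apply hba
      have h3 : a * b = a * a := by rw [h, hsq a ha]
      exact mul_left_cancel h3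
    have hmem : ∀ w ∈ V, w = 1 ∨ w = a ∨ w = b ∨ w = a * b := by
      intro w hw
      by_contra hcon
      push Not at hcon
      obtain ⟨hw1, hwa, hwb, hwab⟩ := hcon
      have hnd : ([1, a, b, a * b, w] : List G).Nodup := by
        simp only [List.nodup_cons, List.mem_cons, List.not_mem_nil, or_false, not_or,
          List.nodup_nil, and_true, not_false_eq_true]
        refine ⟨⟨ha1.symm, hb1.symm, hab1.symm, hw1.symm⟩, ⟨fun h => hba h.symm, ?_, hwa.symm⟩,
          ⟨?_, hwb.symm⟩, hwab.symm⟩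
        · intro h
          exact hb1 (by simpa using h.symm)
        · intro h
          exact ha1 (by simpa using h.symm)
      have hc5 : ([1, a, b, a * b, w] : List G).toFinset.card = 5 := by
        rw [List.toFinset_card_of_nodup hnd]; rfl
      have hsub : (([1, a, b, a * b, w] : List G).toFinset : Set G) ⊆ (V : Set G) := by
        intro y hy
        simp only [List.coe_toFinset, List.mem_cons, List.not_mem_nil, or_false,
          Set.mem_ofPred_eq] at hy
        rcases hy with rfl | rfl | rfl | rfl | rfl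
        · exact one_mem V
        · exact ha
        · exact hb
        · exact mul_mem ha hb
        · exact hw
      have h5 := Set.ncard_le_ncard hsub (Set.toFinite _)
      rw [Set.ncard_coe_finset, hc5] at h5
      have h6 : (V : Set G).ncard = Nat.card V := rfl
      omega
    rcases sidki_four hS ha hb hmem (hsq a ha) (hsq b hb) hab with h | h | h
    · exact hfin a ha ha1 h
    · exact hfin b hb hb1 h
    · exact hfin _ (mul_mem ha hb) hab1 h

end Cfsg.Agent.Lib.Helper17
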