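import Mathlib
import Cfsg.Agent.Lib.Helper17.SylGraph2
import Cfsg.Agent.Lib.Helper17.RankOne
import Cfsg.Agent.S0016
import Cfsg.Agent.Lib.Helper17.DStar2
import Cfsg.Prelude.Def_Local

set_option autoImplicit false

namespace Cfsg.Agent.Lib.Helper17

open Subgroup

theorem quaternion_orderOf_two {m : ℕ} [NeZero m] {x : QuaternionGroup m} (hx : orderOf x = 2) :
    x = QuaternionGroup.a (m : ZMod (2 * m)) := by
  cases x with
  | a i =>
    have h1 : (QuaternionGroup.a i : QuaternionGroup m) ^ 2 = 1 := by rw [← hx]; exact pow_orderOf_eq_one _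
    rw [sq, QuaternionGroup.a_mul_a, QuaternionGroup.one_def] at h1
    have h2 : i + i = 0 := QuaternionGroup.a.inj h1
    have h3 : i ≠ 0 := by
      rintro rfl
      rw [QuaternionGroup.a_zero, orderOf_one] at hx
      omega
    congr 1
    have hm : 0 < m := Nat.pos_of_ne_zero (NeZero.ne m)
    have : NeZero (2 * m) := ⟨by omega⟩
    have h4 : ((i.val + i.val : ℕ) : ZMod (2 * m)) = 0 := by
      push_cast
      rw [ZMod.natCast_zmod_val]; exact h2
    rw [ZMod.natCast_eq_zero_iff] at h4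
    have h5 : i.val < 2 * m := ZMod.val_lt i
    have h6 : i.val ≠ 0 := fun h => h3 ((ZMod.val_eq_zero i).mp h)
    obtain ⟨c, hc⟩ := h4
    have h7 : i.val = m := by
      have hc1 : c = 1 := by
        rcases Nat.lt_or_ge c 1 with h | h
        · have : c = 0 := by omega
          subst this; omega
        · rcases Nat.lt_or_ge c 2 with h' | h'
          · omega
          · have : 2 * m * 2 ≤ 2 * m * c := Nat.mul_le_mul_left _ h'
            omega
      subst hc1; omega
    have h8 : ((i.val : ℕ) : ZMod (2 * m)) = ((m : ℕ) : ZMod (2 * m)) := congrArg _ h7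
    rw [ZMod.natCast_zmod_val] at h8
    exact h8
  | xa i =>
    rw [QuaternionGroup.orderOf_xa] at hx
    omega

variable {G : Type*} [Group G] {p : ℕ}

theorem unique_order_p_of_cyclic_or_quaternion {P : Type*} [Group P] [Finite P] [hp : Fact p.Prime]
    (h : IsCyclic P ∨ (p = 2 ∧ ∃ n : ℕ, Nonempty (P ≃* QuaternionGroup (2 ^ n)))) :
    ∀ A B : Subgroup P, Nat.card A = p → Nat.card B = p → A = B := by
  rcases h with h | ⟨rfl, n, ⟨e⟩⟩
  · intro A B hA hB
    exact Cfsg.Agent.Lib.Helper9.eq_of_card_eq_of_isCyclic (hA.trans hB.symm)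
  · have key : ∀ A : Subgroup P, Nat.card A = 2 →
        A = zpowers (e.symm (QuaternionGroup.a ((2 ^ n : ℕ) : ZMod (2 * 2 ^ n)))) := by
      intro A hA
      obtain ⟨x, hx⟩ := exists_prime_orderOf_dvd_card' (G := A) 2 (by rw [hA])
      have hx' : orderOf (x : P) = 2 := by rw [Subgroup.orderOf_coe]; exact hx
      have h1 : e x = QuaternionGroup.a ((2 ^ n : ℕ) : ZMod (2 * 2 ^ n)) :=
        quaternion_orderOf_two (by rw [MulEquiv.orderOf_eq]; exact hx')
      have h2 : (x : P) = e.symm (QuaternionGroup.a ((2 ^ n : ℕ) : ZMod (2 * 2 ^ n))) := by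
        rw [← h1]; simp
      rw [← h2]
      symm
      apply Subgroup.eq_of_le_of_card_ge (zpowers_le.mpr x.2)
      rw [Nat.card_zpowers, hx', hA]
    intro A B hA hB
    rw [key A hA, key B hB]

theorem exists_pow_orderOf_eq_prime [hp : Fact p.Prime] {y : G} (hy1 : y ≠ 1) {k : ℕ}
    (hk : y ^ (p ^ k) = 1) : ∃ j : ℕ, orderOf (y ^ j) = p := by
  obtain ⟨j, _, hj⟩ := (Nat.dvd_prime_pow hp.out).mp (orderOf_dvd_of_pow_eq_one hk)
  cases j with
  | zero =>
    rw [pow_zero, orderOf_eq_one_iff] at hj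
    exact absurd hj hy1
  | succ i =>
    refine ⟨p ^ i, ?_⟩
    rw [orderOf_pow_of_dvd (pow_ne_zero _ hp.out.ne_zero) (by rw [hj]; exact pow_dvd_pow p (Nat.le_succ i)),
      hj, pow_succ, Nat.mul_div_cancel_left _ (pow_pos hp.out.pos _)]

theorem not_connected_of_unique [hp : Fact p.Prime] [Finite G] (hdiv : p ∣ Nat.card G)
    (hcore : Cfsg.pCore p G = ⊥) (P : Sylow p G)
    (hU : ∀ A B : Subgroup P, Nat.card A = p → Nat.card B = p → A = B) :
    ¬ Cfsg.IsSylowChainConnected p G := by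
  rw [chainConnected_iff]
  intro hconn
  have hcs : ∀ A : Subgroup G, A ≤ P → Nat.card (A.subgroupOf (P : Subgroup G)) = Nat.card A := by
    intro A hA
    rw [← Subgroup.card_map_of_injective (P : Subgroup G).subtype_injective,
      Subgroup.map_subgroupOf_eq_of_le hA]
  have hUG : ∀ A B : Subgroup G, A ≤ P → B ≤ P → Nat.card A = p → Nat.card B = p → A = B := by
    intro A B hA hB hcA hcB
    have h1 := hU (A.subgroupOf P) (B.subgroupOf P) (by rw [hcs A hA, hcA]) (by rw [hcs B hB, hcB])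
    rw [subgroupOf_inj, inf_eq_left.mpr hA, inf_eq_left.mpr hB] at h1
    exact h1
  have hUS : ∀ (S : Sylow p G) (A B : Subgroup G), A ≤ S → B ≤ S → Nat.card A = p → Nat.card B = p →
      A = B := by
    intro S A B hA hB hcA hcB
    obtain ⟨g, hg⟩ := MulAction.exists_smul_eq G S P
    have hle : ∀ C : Subgroup G, C ≤ S → C.map (MulAut.conj g).toMonoidHom ≤ P := by
      intro C hC
      rw [← hg, Sylow.coe_subgroup_smul, ← map_conj_eq_smul]
      exact Subgroup.map_mono hC
    have h1 := hUG _ _ (hle A hA) (hle B hB)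
      (by rw [card_map_of_injective (MulAut.conj g).injective, hcA])
      (by rw [card_map_of_injective (MulAut.conj g).injective, hcB])
    exact Subgroup.map_injective (MulAut.conj g).injective h1
  obtain ⟨z, hz⟩ := exists_prime_orderOf_dvd_card' p (P.dvd_card_of_dvd_card hdiv)
  have hz' : orderOf (z : G) = p := by rw [Subgroup.orderOf_coe]; exact hz
  obtain ⟨Z, hZ⟩ : ∃ Z, Z = zpowers (z : G) := ⟨_, rfl⟩
  have hZc : Nat.card Z = p := by rw [hZ, Nat.card_zpowers, hz']
  have hZS : ∀ S : Sylow p G, sylConn P S → Z ≤ S := by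
    intro S hS
    induction hS with
    | refl => rw [hZ, zpowers_le]; exact z.2
    | @tail b c _ hbc ih =>
      obtain ⟨y, hy, hy1⟩ := exists_ne_one_of_ne_bot hbc.2
      obtain ⟨hyb, hyc⟩ := Subgroup.mem_inf.mp hy
      obtain ⟨k, hk⟩ := exists_pow_eq_one_of_isPGroup b.2 hyb
      obtain ⟨j, hj⟩ := exists_pow_orderOf_eq_prime hy1 hk
      have h1 : Z = zpowers (y ^ j) :=
        hUS b _ _ ih (zpowers_le.mpr (pow_mem hyb j)) hZc (by rw [Nat.card_zpowers, hj])
      rw [h1, zpowers_le]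
      exact pow_mem hyc j
  have hZn : Z.Normal := by
    rw [normal_iff_map_conj_eq]
    intro g
    apply hUS (g • P) _ _ _ (hZS _ (hconn _ _)) _ hZc
    · rw [Sylow.coe_subgroup_smul, ← map_conj_eq_smul]
      exact Subgroup.map_mono (hZS P (hconn _ _))
    · exact (card_map_of_injective (MulAut.conj g).injective).trans hZc
  have hZp : IsPGroup p Z := IsPGroup.of_card (n := 1) (by rw [hZc, pow_one])
  have h1 := le_pCore hZn hZp
  rw [hcore, le_bot_iff] at h1
  rw [h1, Subgroup.card_bot] at hZc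
  exact hp.out.one_lt.ne hZc

theorem exists_pair_of_isPSolvable [hp : Fact p.Prime] [Finite G] (hsol : Cfsg.IsPSolvable p G)
    (hdiv : p ∣ Nat.card G) :
    ∃ K L : Subgroup G, K.Normal ∧ L.Normal ∧ K ≤ L ∧ (Nat.card K).Coprime p ∧ p ∣ Nat.card L ∧
      ∃ m : ℕ, K.relIndex L = p ^ m := by
  classical
  obtain ⟨n, H, h0, hn, hmono, hnorm, hfac⟩ := hsol
  have hex : ∃ j : ℕ, ∃ hj : j < n + 1, p ∣ Nat.card (H ⟨j, hj⟩) := by
    refine ⟨n, by omega, ?_⟩
    have h1 : (⟨n, by omega⟩ : Fin (n + 1)) = Fin.last n := rfl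
    rw [h1, hn, Subgroup.card_top]
    exact hdiv
  obtain ⟨j, hjspec, hjmin⟩ : ∃ j, (∃ hj : j < n + 1, p ∣ Nat.card (H ⟨j, hj⟩)) ∧
      ∀ m < j, ¬ (∃ hj : m < n + 1, p ∣ Nat.card (H ⟨m, hj⟩)) :=
    ⟨Nat.find hex, Nat.find_spec hex, fun m hm => Nat.find_min hex hm⟩
  obtain ⟨hj, hjd⟩ := hjspec
  cases j with
  | zero =>
    exfalso
    have h1 : (⟨0, hj⟩ : Fin (n + 1)) = 0 := rfl
    rw [h1, h0, Subgroup.card_bot] at hjd
    exact hp.out.one_lt.ne' (Nat.dvd_one.mp hjd)
  | succ i =>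
    have hi : i < n := by omega
    have hK : ¬ p ∣ Nat.card (H (Fin.castSucc ⟨i, hi⟩)) := by
      intro hd
      exact hjmin i (by omega) ⟨by omega, hd⟩
    have hL : p ∣ Nat.card (H (Fin.succ ⟨i, hi⟩)) := hjd
    have hle : H (Fin.castSucc ⟨i, hi⟩) ≤ H (Fin.succ ⟨i, hi⟩) :=
      hmono (Fin.castSucc_lt_succ).le
    refine ⟨H (Fin.castSucc ⟨i, hi⟩), H (Fin.succ ⟨i, hi⟩), hnorm _, hnorm _, hle, ?_, hL, ?_⟩
    · rw [Nat.coprime_comm, Nat.Prime.coprime_iff_not_dvd hp.out]; exact hK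
    · rcases hfac ⟨i, hi⟩ with h1 | h1
      · exact h1
      · exfalso
        have h2 := relIndex_mul_card_of_le hle
        rw [← h2] at hL
        rcases (Nat.Prime.dvd_mul hp.out).mp hL with h3 | h3
        · rw [Nat.coprime_comm, Nat.Prime.coprime_iff_not_dvd hp.out] at h1
          exact h1 h3
        · exact hK h3

theorem unique_of_strEmb_of_pSolvable [hp : Fact p.Prime] [Finite G] (hsol : Cfsg.IsPSolvable p G)
    (hdiv : p ∣ Nat.card G) {X : Subgroup G} (h : StrEmb p X) (T : Sylow p G) (hT : (T : Subgroup G) ≤ X) :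
    ∀ A B : Subgroup T, Nat.card A = p → Nat.card B = p → A = B := by
  intro A B hA hB
  by_contra hAB
  have hgen : ∀ A : Subgroup T, Nat.card A = p → ∃ x : T, orderOf x = p ∧ A = zpowers x := by
    intro A hA
    obtain ⟨x, hx⟩ := exists_prime_orderOf_dvd_card' (G := A) p (by rw [hA])
    have hx' : orderOf (x : T) = p := by rw [Subgroup.orderOf_coe]; exact hx
    refine ⟨x, hx', ?_⟩
    symm
    apply Subgroup.eq_of_le_of_card_ge (zpowers_le.mpr x.2)
    rw [Nat.card_zpowers, hx', hA]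
  obtain ⟨x1, ho1, rfl⟩ := hgen A hA
  obtain ⟨x2, ho2, rfl⟩ := hgen B hB
  have hnt : Nontrivial T := ⟨x1, 1, ne_one_of_orderOf_eq_prime ho1⟩
  obtain ⟨z, hzc, hzo⟩ := exists_central_orderOf_eq_prime T.2
  obtain ⟨y, hyo, hyz⟩ : ∃ y : T, orderOf y = p ∧ zpowers y ≠ zpowers z := by
    by_cases h1 : zpowers x1 = zpowers z
    · exact ⟨x2, ho2, fun h2 => hAB (h1.trans h2.symm)⟩
    · exact ⟨x1, ho1, h1⟩
  have hao : orderOf (z : G) = p := by rw [Subgroup.orderOf_coe]; exact hzo
  have hbo : orderOf (y : G) = p := by rw [Subgroup.orderOf_coe]; exact hyo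
  have hab : (z : G) * (y : G) = (y : G) * (z : G) := by
    have := (mem_center_iff.mp hzc) y
    exact (congrArg Subtype.val this).symm
  obtain ⟨E, hE⟩ : ∃ E, E = zpowers (z : G) ⊔ zpowers (y : G) := ⟨_, rfl⟩
  have haE : (z : G) ∈ E := by rw [hE]; exact mem_sup_left (mem_zpowers _)
  have hbE : (y : G) ∈ E := by rw [hE]; exact mem_sup_right (mem_zpowers _)
  have hEc : IsMulCommutative E := by
    rw [hE]
    apply isMulCommutative_sup inferInstance inferInstance
    rw [zpowers_le, mem_centralizer_iff]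
    rintro _ ⟨n, rfl⟩
    have c : Commute (z : G) (y : G) := hab
    exact (c.zpow_left n)
  have hET : E ≤ T := by
    rw [hE]; exact sup_le (zpowers_le.mpr z.2) (zpowers_le.mpr y.2)
  have hEnc : ¬ IsCyclic E := by
    intro hcyc
    have h1 : zpowers (⟨z, haE⟩ : E) = zpowers (⟨y, hbE⟩ : E) := by
      apply Cfsg.Agent.Lib.Helper9.eq_of_card_eq_of_isCyclic
      rw [Nat.card_zpowers, Nat.card_zpowers, Subgroup.orderOf_mk, Subgroup.orderOf_mk, hao, hbo]
    have h2 : (⟨y, hbE⟩ : E) ∈ zpowers (⟨z, haE⟩ : E) := by rw [h1]; exact mem_zpowers _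
    obtain ⟨n, hn⟩ := mem_zpowers_iff.mp h2
    have h3 : (z : G) ^ n = y := by simpa using congrArg Subtype.val hn
    have h4 : z ^ n = y := Subtype.ext (by simpa using h3)
    apply hyz
    apply Subgroup.eq_of_le_of_card_ge
    · rw [zpowers_le, ← h4]; exact zpow_mem (mem_zpowers z) n
    · rw [Nat.card_zpowers, Nat.card_zpowers, hzo, hyo]
  obtain ⟨K, L, hKn, hLn, hKL, hKcop, hLd, m, hm⟩ := exists_pair_of_isPSolvable hsol hdiv
  have hEcop : (Nat.card E).Coprime (Nat.card K) := by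
    obtain ⟨k, hk⟩ := IsPGroup.iff_card.mp (T.2.to_le hET)
    rw [hk]
    exact Nat.Coprime.pow_left k hKcop.symm
  have hgenK := Cfsg.Agent.S0058.result E K hEnc le_normalizer_of_normal hEcop
  have hKX : K ≤ X := by
    rw [← hgenK]
    apply iSup_le
    intro e
    apply iSup_le
    rintro ⟨heE, he1⟩
    obtain ⟨k, hk⟩ := exists_pow_eq_one_of_isPGroup T.2 (hET heE)
    exact inf_le_right.trans (h.centralizer_le he1 hk (hT (hET heE)))
  have hLX : L ≤ X := by
    have hp1 : IsPGroup p (L.map (QuotientGroup.mk' K)) := by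
      apply IsPGroup.of_card (n := m)
      have h1 := Subgroup.relIndex_ker (QuotientGroup.mk' K) (K := L)
      rw [QuotientGroup.ker_mk'] at h1
      rw [← h1, hm]
    have hnorm : (L.map (QuotientGroup.mk' K)).Normal := hLn.map _ (QuotientGroup.mk'_surjective K)
    have hle := (le_pCore hnorm hp1).trans
      (pCore_le_sylow (T.mapSurjective (QuotientGroup.mk'_surjective K)))
    intro l hl
    obtain ⟨t, ht, htl⟩ := hle ⟨l, hl, rfl⟩
    have h3 : t⁻¹ * l ∈ K := QuotientGroup.eq.mp htl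
    have h4 : l = t * (t⁻¹ * l) := by group
    rw [h4]
    exact mul_mem (hT ht) (hKX h3)
  obtain ⟨a, haT, haL, hao'⟩ := exists_orderOf_eq_prime_mem_sylow_inf T L hLd
  apply h.ne_top
  rw [eq_top_iff]
  intro g _
  apply h.mem_of_conj (y := g * a * g⁻¹) (k := 1) _ _ (hLX (hLn.conj_mem a haL g))
  · have : g⁻¹ * (g * a * g⁻¹) * g = a := by group
    rw [this]; exact hT haT
  · apply ne_one_of_orderOf_eq_prime (p := p)
    rw [orderOf_conj_eq, hao']
  · apply pow_prime_pow_one_of_orderOf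
    rw [orderOf_conj_eq, hao']

theorem pCore_eq_bot_of_not_connected [hp : Fact p.Prime] [Finite G]
    (h : ¬ Cfsg.IsSylowChainConnected p G) : Cfsg.pCore p G = ⊥ := by
  by_contra hne
  apply h
  rw [chainConnected_iff]
  intro S T
  obtain ⟨y, hy, hy1⟩ := exists_ne_one_of_ne_bot hne
  exact sylConn_of_mem hy1 (pCore_le_sylow S hy) (pCore_le_sylow T hy)

end Cfsg.Agent.Lib.Helper17
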